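import Mathlib
import Cfsg.Agent.Lib.Invol.Sylow
import Cfsg.Agent.Lib.Invol.Closed
import Cfsg.Agent.Lib.Fus.SClosedSE.Core
import Cfsg.Agent.Lib.Fus.TightCriterion.Basic

/-!
# A class of involutions fixing one point, with commuting products fixing one point

`Single M q`: `q` is moved into `M` only by elements of `M`.  When the members of `Z` and the products
of two commuting members in `M` are of this kind, members at different points have products of odd
order.
-/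

set_option autoImplicit false

namespace Cfsg.Agent.Fus.SingleCrit

open Subgroup

universe u

variable {G : Type u} [Group G]

/-- `q` is moved into `M` only by elements of `M`. -/
def Single (M : Subgroup G) (q : G) : Prop := ∀ g : G, g * q * g⁻¹ ∈ M → g ∈ M

/-- The hypothesis on the class `Z` and the subgroup `M`. -/
structure Hyp (Z : Set G) (M : Subgroup G) : Prop where
  inv : ∀ x ∈ Z, orderOf x = 2
  conj : ∀ x ∈ Z, ∀ g : G, g * x * g⁻¹ ∈ Z
  moves : ∀ x ∈ Z, x ∈ M → Single M x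
  pair : ∀ x ∈ Z, x ∈ M → ∀ y ∈ Z, y ∈ M → Commute x y → x ≠ y → Single M (x * y)
  central : ∃ P : Sylow 2 G, (P : Subgroup G) ≤ M ∧ ∃ z ∈ Z, z ∈ P ∧ ∀ p ∈ P, Commute p z
  ne_top : M ≠ ⊤

variable {Z : Set G} {M : Subgroup G}

theorem Single.mem_of_commute {q g : G} (h : Single M q) (hq : q ∈ M) (hc : Commute g q) : g ∈ M :=
  h g (by rwa [hc.eq, mul_inv_cancel_right])

theorem Single.conj_iff {q g : G} (h : Single M q) (hq : q ∈ M) : g * q * g⁻¹ ∈ M ↔ g ∈ M :=
  ⟨h g, fun hg => mul_mem (mul_mem hg hq) (inv_mem hg)⟩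

theorem Single.conj {q m : G} (h : Single M q) (hm : m ∈ M) : Single M (m * q * m⁻¹) := by
  intro g hg
  have := h (g * m) (by simpa [mul_assoc] using hg)
  simpa using mul_mem this (inv_mem hm)

theorem conj_pow_odd {d e : G} (hd : d * d = 1) (he : e * e = 1) {n : ℕ}
    (hn : orderOf (e * d) = 2 * n + 1) : (e * d) ^ (n + 1) * d * ((e * d) ^ (n + 1))⁻¹ = e := by
  have hda : d * (e * d) * d⁻¹ = (e * d)⁻¹ := by
    rw [mul_inv_rev, inv_eq_of_mul_eq_one_right hd, inv_eq_of_mul_eq_one_right he, mul_assoc, mul_assoc, hd,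
      mul_one]
  have h3 : (e * d) ^ (n + 1 + (n + 1)) = e * d := by
    rw [show n + 1 + (n + 1) = (2 * n + 1) + 1 by omega, pow_succ, ← hn, pow_orderOf_eq_one, one_mul]
  rw [Tight.conj_pow_of_inverts hda, h3, mul_assoc, hd, mul_one]

/-- Two involutions with a product of even order: a middle involution and a third conjugate. -/
theorem exists_middle {x y : G} (hx : orderOf x = 2) (hy : orderOf y = 2)
    (he : Even (orderOf (x * y))) (h0 : 0 < orderOf (x * y)) :
    ∃ w : G, w ≠ 1 ∧ Commute w x ∧ Commute w y ∧ w ∈ Subgroup.zpowers (x * y) ∧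
      (∃ c ∈ Subgroup.closure ({x, y} : Set G), w * x = c * x * c⁻¹ ∨ w * x = c * y * c⁻¹) := by
  obtain ⟨r, hr⟩ := he
  have hxx := Invol.mul_self_of_orderOf_two hx
  have hyy := Invol.mul_self_of_orderOf_two hy
  set w := (x * y) ^ r with hw
  have hw1 : w ≠ 1 := fun e => by
    have := Nat.le_of_dvd (by omega) (orderOf_dvd_of_pow_eq_one e)
    omega
  have hwinv : w⁻¹ = w := inv_eq_of_mul_eq_one_right (by rw [hw, ← pow_add, ← hr, pow_orderOf_eq_one])
  have hix : x * (x * y) * x⁻¹ = (x * y)⁻¹ := Invol.conj_mul_eq_inv hx hy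
  have hiy : y * (x * y) * y⁻¹ = (x * y)⁻¹ := by
    rw [mul_inv_rev, Invol.inv_of_orderOf_two hy, Invol.inv_of_orderOf_two hx, mul_assoc, mul_assoc, hyy, mul_one]
  have key : ∀ a : G, a * (x * y) * a⁻¹ = (x * y)⁻¹ → Commute w a := fun a ha => by
    have h1 : a * w * a⁻¹ = w := by rw [hw, ← conj_pow, ha, inv_pow, ← hw, hwinv]
    exact (mul_inv_eq_iff_eq_mul.1 h1).symm
  refine ⟨w, hw1, key x hix, key y hiy, Subgroup.npow_mem_zpowers _ _, ?_⟩
  have hmem : ∀ k : ℕ, (x * y) ^ k ∈ Subgroup.closure ({x, y} : Set G) := fun k =>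
    pow_mem (mul_mem Invol.left_mem_closure_pair Invol.right_mem_closure_pair) k
  rcases Nat.even_or_odd' r with ⟨k, hk | hk⟩
  · refine ⟨(x * y) ^ k, hmem k, Or.inl ?_⟩
    rw [Tight.conj_pow_of_inverts hix, ← two_mul, ← hk]
  · refine ⟨(x * y) ^ (k + 1), hmem _, Or.inr ?_⟩
    rw [Tight.conj_pow_of_inverts hiy, hw, hk, show k + 1 + (k + 1) = 2 * k + 1 + 1 by omega, pow_succ _ (2 * k + 1),
      mul_assoc _ (x * y) y, mul_assoc x y y, hyy, mul_one]

namespace Hyp

variable (h : Hyp Z M)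
include h

theorem mul_self {x : G} (hx : x ∈ Z) : x * x = 1 := Invol.mul_self_of_orderOf_two (h.inv x hx)

theorem exists_member : ∃ z ∈ Z, z ∈ M := by
  obtain ⟨P, hP, z, hz, hzP, -⟩ := h.central
  exact ⟨z, hz, hP hzP⟩

theorem mem_of_commute {d g : G} (hd : d ∈ Z) (hdM : d ∈ M) (hc : Commute g d) : g ∈ M :=
  (h.moves d hd hdM).mem_of_commute hdM hc

/-- Members at different points have a product of odd order. -/
theorem odd_product [Finite G] {x y : G} (hx : x ∈ Z) (hxM : x ∈ M) (hy : y ∈ Z) (hyM : y ∉ M) :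
    Odd (orderOf (x * y)) := by
  refine Nat.not_even_iff_odd.1 fun he => ?_
  obtain ⟨w, hw1, hwx, hwy, -, c, -, hc⟩ :=
    exists_middle (h.inv x hx) (h.inv y hy) he (orderOf_pos _)
  have hx' : w * x ∈ Z := by
    rcases hc with e | e <;> rw [e]
    exacts [h.conj x hx c, h.conj y hy c]
  have hcomm : Commute x (w * x) := hwx.symm.mul_right (Commute.refl x)
  have hwM : w ∈ M := h.mem_of_commute hx hxM hwx
  have hne : x ≠ w * x := fun e => hw1 (mul_eq_right.1 e.symm)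
  have hs := h.pair x hx hxM _ hx' (mul_mem hwM hxM) hcomm hne
  have heq : x * (w * x) = w := by rw [← mul_assoc, ← hwx.eq, mul_assoc, h.mul_self hx, mul_one]
  exact hyM ((heq ▸ hs).mem_of_commute hwM hwy.symm)

/-- Members at different points are conjugate by an element commuting with what commutes with both. -/
theorem conj_of_ne [Finite G] {x y : G} (hx : x ∈ Z) (hxM : x ∈ M) (hy : y ∈ Z) (hyM : y ∉ M) :
    ∃ k ∈ Subgroup.closure ({x, y} : Set G), k * x * k⁻¹ = y := by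
  obtain ⟨n, hn⟩ := h.odd_product hx hxM hy hyM
  have hinv : (x * y)⁻¹ = y * x := by
    rw [mul_inv_rev, Invol.inv_of_orderOf_two (h.inv x hx), Invol.inv_of_orderOf_two (h.inv y hy)]
  have hn' : orderOf (y * x) = 2 * n + 1 := by rw [← hinv, orderOf_inv, hn]
  exact ⟨(y * x) ^ (n + 1), pow_mem (mul_mem Invol.right_mem_closure_pair Invol.left_mem_closure_pair) _,
    conj_pow_odd (h.mul_self hx) (h.mul_self hy) hn'⟩

/-- The members of `Z` in a subgroup reaching two points are conjugate inside it. -/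
theorem conj_in [Finite G] {C : Subgroup G} {x e y : G} (hx : x ∈ Z) (hxM : x ∈ M) (hxC : x ∈ C)
    (he : e ∈ Z) (heM : e ∉ M) (heC : e ∈ C) (hy : y ∈ Z) (hyC : y ∈ C) :
    ∃ k ∈ Subgroup.closure (Z ∩ C), k * x * k⁻¹ = y := by
  have hle : ∀ {a b : G}, a ∈ Z → a ∈ C → b ∈ Z → b ∈ C →
      Subgroup.closure ({a, b} : Set G) ≤ Subgroup.closure (Z ∩ C) := fun ha haC hb hbC =>
    closure_mono (Set.insert_subset ⟨ha, haC⟩ (Set.singleton_subset_iff.2 ⟨hb, hbC⟩))
  by_cases hyM : y ∈ M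
  · obtain ⟨k, hk, hke⟩ := h.conj_of_ne hx hxM he heM
    obtain ⟨l, hl, hle'⟩ := h.conj_of_ne hy hyM he heM
    refine ⟨l⁻¹ * k, mul_mem (inv_mem (hle hy hyC he heC hl)) (hle hx hxC he heC hk), ?_⟩
    calc l⁻¹ * k * x * (l⁻¹ * k)⁻¹ = l⁻¹ * (k * x * k⁻¹) * l := by group
      _ = y := by rw [hke, ← hle']; group
  · obtain ⟨k, hk, hke⟩ := h.conj_of_ne hx hxM hy hyM
    exact ⟨k, hle hx hxC hy hyC hk, hke⟩

theorem exists_outside : ∃ e ∈ Z, e ∉ M := by
  obtain ⟨z, hz, hzM⟩ := h.exists_member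
  by_contra! hne
  exact h.ne_top (eq_top_iff.2 fun g _ => h.moves z hz hzM g (hne _ (h.conj z hz g)))

/-- A 2-group containing a member in `M` lies in `M`. -/
theorem twoGroup_le [Finite G] {W : Subgroup G} (hW : IsPGroup 2 W) {x : G} (hx : x ∈ Z) (hxW : x ∈ W)
    (hxM : x ∈ M) : W ≤ M := by
  by_contra hle
  have hne : W ⊓ M ≠ W := fun e => hle (e ▸ inf_le_right)
  have hlt := SClosedSE.card_lt_inf_normalizer hW (inf_le_left : W ⊓ M ≤ W) hne
  refine hlt.not_ge (Subgroup.card_le_of_le ?_)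
  intro g hg
  refine Subgroup.mem_inf.2 ⟨hg.1, h.moves x hx hxM g ?_⟩
  exact ((Subgroup.mem_normalizer_iff.1 hg.2 x).1 (Subgroup.mem_inf.2 ⟨hxW, hxM⟩)).2

/-- A 2-subgroup of `M` lies in a Sylow subgroup inside `M` with a central member. -/
theorem exists_sylow [Finite G] {W : Subgroup G} (hW : IsPGroup 2 W) (hWM : W ≤ M) :
    ∃ P : Sylow 2 G, W ≤ P ∧ (P : Subgroup G) ≤ M ∧ ∃ z ∈ Z, z ∈ P ∧ ∀ p ∈ P, Commute p z := by
  haveI : Fact (Nat.Prime 2) := ⟨Nat.prime_two⟩
  obtain ⟨P, hP, z, hz, hzP, hzc⟩ := h.central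
  obtain ⟨m, hm⟩ := Invol.exists_conj_subset_sylow (hW.comap_subtype (K := M)) (P.subtype hP)
  have hmem : ∀ x : G, x ∈ ((m : G)⁻¹ • P : Sylow 2 G) ↔ (m : G) * x * (m : G)⁻¹ ∈ P := fun x => by
    show x ∈ (((m : G)⁻¹ • P : Sylow 2 G) : Subgroup G) ↔ _
    rw [Sylow.coe_subgroup_smul, Subgroup.mem_pointwise_smul_iff_inv_smul_mem]
    simp only [map_inv, inv_inv, MulAut.smul_def, MulAut.conj_apply]
    rfl
  refine ⟨(m : G)⁻¹ • P, fun w hw => (hmem w).2 ?_, fun x hx => ?_,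
    (m : G)⁻¹ * z * (m : G), ?_, (hmem _).2 ?_, fun p hp => ?_⟩
  · exact hm ⟨w, hWM hw⟩ hw
  · have := mul_mem (mul_mem (inv_mem m.2) (hP ((hmem x).1 hx))) m.2
    simpa [mul_assoc] using this
  · simpa using h.conj z hz (m : G)⁻¹
  · simpa [mul_assoc] using hzP
  · have hc := hzc _ ((hmem p).1 hp)
    show p * _ = _ * p
    calc p * ((m : G)⁻¹ * z * m) = (m : G)⁻¹ * ((m : G) * p * (m : G)⁻¹ * z) * m := by group
      _ = (m : G)⁻¹ * (z * ((m : G) * p * (m : G)⁻¹)) * m := by rw [hc.eq]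
      _ = _ := by group

/-- A 2-subgroup of `M` commutes with a member in `M`. -/
theorem exists_member_commute [Finite G] {W : Subgroup G} (hW : IsPGroup 2 W) (hWM : W ≤ M) :
    ∃ z ∈ Z, z ∈ M ∧ ∀ w ∈ W, Commute w z := by
  obtain ⟨P, hWP, hPM, z, hz, hzP, hzc⟩ := h.exists_sylow hW hWM
  exact ⟨z, hz, hPM hzP, fun w hw => hzc w (hWP hw)⟩

end Hyp

end Cfsg.Agent.Fus.SingleCrit
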