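import Mathlib
import Cfsg.Agent.Lib.Fus.SingleCriterion.Basic

/-!
# A Sylow subgroup of a centraliser, modulo the kernel on the points

`C` reaches two points; `T` is a Sylow subgroup of `C` in `M` with a member; `kernel M C` is the
kernel of `C` on the points.  Members in `T` are determined modulo the kernel and centralise `T ⊓ kernel`.
-/

set_option autoImplicit false

namespace Cfsg.Agent.Fus.SingleCrit

open Subgroup

universe u

variable {G : Type u} [Group G]

/-- The kernel of `C` on the cosets of `M ∩ C`. -/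
def kernel (M C : Subgroup G) : Subgroup G := (M.subgroupOf C).normalCore.map C.subtype

theorem mem_kernel {M C : Subgroup G} {g : G} :
    g ∈ kernel M C ↔ g ∈ C ∧ ∀ c ∈ C, c * g * c⁻¹ ∈ M := by
  constructor
  · rintro ⟨x, hx, rfl⟩
    exact ⟨x.2, fun c hc => hx ⟨c, hc⟩⟩
  · rintro ⟨hg, h⟩
    exact ⟨⟨g, hg⟩, fun c => h c c.2, rfl⟩

theorem kernel_le {M C : Subgroup G} : kernel M C ≤ C := fun _ hg => (mem_kernel.1 hg).1

theorem kernel_le_right {M C : Subgroup G} : kernel M C ≤ M := fun g hg => by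
  simpa using (mem_kernel.1 hg).2 1 C.one_mem

theorem conj_mem_kernel {M C : Subgroup G} {g c : G} (hg : g ∈ kernel M C) (hc : c ∈ C) :
    c * g * c⁻¹ ∈ kernel M C := by
  obtain ⟨hgC, h⟩ := mem_kernel.1 hg
  refine mem_kernel.2 ⟨C.mul_mem (C.mul_mem hc hgC) (C.inv_mem hc), fun d hd => ?_⟩
  simpa [mul_assoc] using h (d * c) (C.mul_mem hd hc)

theorem le_normalizer_kernel {M C : Subgroup G} : C ≤ normalizer (kernel M C : Set G) := fun c hc =>
  mem_normalizer_iff.2 fun g => ⟨fun hg => conj_mem_kernel hg hc, fun hg => by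
    have := conj_mem_kernel hg (C.inv_mem hc)
    simpa [mul_assoc] using this⟩

/-- A Sylow subgroup of `C` in `M` with a member. -/
structure Frame (Z : Set G) (M C T : Subgroup G) : Prop where
  sylow : SClosedSE.IsTwoSylowIn T C
  le : T ≤ M
  meets : ∃ a ∈ Z, a ∈ T
  out : ¬ C ≤ M

theorem relIndex_sup_normal {H : Type u} [Group H] [Finite H] (N P : Subgroup H) [N.Normal] :
    P.relIndex (N ⊔ P) = P.relIndex N := by
  have h1 := relIndex_mul_relIndex (⊥ : Subgroup H) P (N ⊔ P) bot_le le_sup_right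
  have h2 := relIndex_mul_relIndex (⊥ : Subgroup H) N (N ⊔ P) bot_le le_sup_left
  have h5 := relIndex_mul_relIndex (⊥ : Subgroup H) (P ⊓ N) N bot_le inf_le_right
  have h6 := relIndex_mul_relIndex (⊥ : Subgroup H) (P ⊓ N) P bot_le inf_le_left
  simp only [relIndex_bot_left, inf_relIndex_right, inf_relIndex_left, relIndex_sup_left] at h1 h2 h5 h6
  rw [← h2, ← h6, ← h5] at h1
  have hpos : Nat.card ↥(P ⊓ N) * N.relIndex P ≠ 0 :=
    mul_ne_zero Nat.card_pos.ne' (index_ne_zero_of_finite (H := N.subgroupOf P))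
  exact Nat.eq_of_mul_eq_mul_left (Nat.pos_of_ne_zero hpos) (h1.trans (by ring))

theorem exists_conj_mem_of_odd [Finite G] {N P : Subgroup G} (hP : IsPGroup 2 P)
    (hn : P ≤ normalizer (N : Set G)) (hodd : ¬ 2 ∣ P.relIndex N) {Q : Subgroup G} (hQ : IsPGroup 2 Q)
    (hQle : Q ≤ N ⊔ P) : ∃ n ∈ N, ∀ q ∈ Q, n * q * n⁻¹ ∈ P := by
  haveI : Fact (Nat.Prime 2) := ⟨Nat.prime_two⟩
  obtain ⟨X, hX⟩ : ∃ X, X = N ⊔ P := ⟨_, rfl⟩
  have hNX : N ≤ X := hX ▸ le_sup_left
  have hPX : P ≤ X := hX ▸ le_sup_right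
  haveI hKn : (N.subgroupOf X).Normal := normal_subgroupOf_of_le_normalizer
    (hX ▸ sup_le le_normalizer hn)
  have htop : N.subgroupOf X ⊔ P.subgroupOf X = ⊤ := by
    rw [← subgroupOf_sup hNX hPX, ← hX, subgroupOf_self]
  have hidx : (P.subgroupOf X).index = P.relIndex N := by
    rw [← relIndex_top_right, ← htop, relIndex_sup_normal, relIndex_subgroupOf hNX]
  set S := (hP.comap_subtype (K := X) : IsPGroup 2 (P.subgroupOf X)).toSylow (hidx ▸ hodd) with hS
  obtain ⟨g, hg⟩ := Invol.exists_conj_subset_sylow (hQ.comap_subtype (K := X)) S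
  obtain ⟨p, hp, n, hn', hpn⟩ := mem_sup_of_normal_right.1
    ((sup_comm _ _).trans htop ▸ mem_top g : g ∈ P.subgroupOf X ⊔ N.subgroupOf X)
  refine ⟨(n : G), hn', fun q hq => ?_⟩
  have h1 : (g : G) * q * (g : G)⁻¹ ∈ P := hg ⟨q, hX ▸ hQle hq⟩ hq
  rw [← hpn] at h1
  have := mul_mem (mul_mem (inv_mem (show (p : G) ∈ P from hp)) h1) (show (p : G) ∈ P from hp)
  simpa [mul_assoc] using this

namespace Frame

variable {Z : Set G} {M C T : Subgroup G} (F : Frame Z M C T) (h : Hyp Z M)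
include F

theorem mem_C {a : G} (ha : a ∈ T) : a ∈ C := F.sylow.1 ha

theorem le_normalizer : T ≤ normalizer (kernel M C : Set G) := F.sylow.1.trans le_normalizer_kernel

theorem odd_relIndex [Finite G] : ¬ 2 ∣ T.relIndex (kernel M C) := by
  haveI : Fact (Nat.Prime 2) := ⟨Nat.prime_two⟩
  obtain ⟨S, hS⟩ := F.sylow.sylow
  intro hd
  refine S.not_dvd_index ?_
  rw [hS]
  haveI : (M.subgroupOf C).normalCore.Normal := normalCore_normal _
  have h1 : (kernel M C).subgroupOf C = (M.subgroupOf C).normalCore :=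
    comap_map_eq_self_of_injective C.subtype_injective _
  rw [← relIndex_subgroupOf (H := T) kernel_le, h1,
    ← relIndex_sup_normal (M.subgroupOf C).normalCore (T.subgroupOf C)] at hd
  refine hd.trans ?_
  rw [← relIndex_top_right]
  exact dvd_of_mul_right_eq _ (relIndex_mul_relIndex _ _ _ le_sup_right le_top)

/-- A 2-subgroup of `T ⊔ kernel` moves into `T` by the kernel. -/
theorem move [Finite G] {Q : Subgroup G} (hQ : IsPGroup 2 Q) (hQle : Q ≤ kernel M C ⊔ T) :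
    ∃ n ∈ kernel M C, ∀ q ∈ Q, n * q * n⁻¹ ∈ T :=
  exists_conj_mem_of_odd F.sylow.2.1 F.le_normalizer F.odd_relIndex hQ hQle

include h

theorem mul_notMem {x y : G} (hx : x ∈ Z) (hxM : x ∈ M) (hy : y ∈ Z) (hyM : y ∈ M) (hc : Commute x y)
    (hne : x ≠ y) : x * y ∉ kernel M C := fun hk =>
  F.out fun c hc' => h.pair x hx hxM y hy hyM hc hne c ((mem_kernel.1 hk).2 c hc')

/-- Members in `T` are determined modulo the kernel. -/
theorem eq_of_mul_mem [Finite G] {x y : G} (hx : x ∈ Z) (hxT : x ∈ T) (hy : y ∈ Z) (hyT : y ∈ T)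
    (hk : x * y ∈ kernel M C) : x = y := by
  by_contra hne
  have h1 : x * y ≠ 1 := Invol.mul_ne_one_of_ne (h.inv x hx) hne
  have he : Even (orderOf (x * y)) := by
    haveI : Fact (Nat.Prime 2) := ⟨Nat.prime_two⟩
    obtain ⟨k, hk⟩ := IsPGroup.iff_orderOf.1 F.sylow.2.1 ⟨x * y, T.mul_mem hxT hyT⟩
    rw [Subgroup.orderOf_mk] at hk
    rcases k with _ | k
    · exact absurd (orderOf_eq_one_iff.1 hk) h1
    · rw [hk, pow_succ]; exact even_two.mul_left _
  obtain ⟨w, hw1, hwx, -, hwz, c, hc, hcx⟩ :=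
    exists_middle (h.inv x hx) (h.inv y hy) he (orderOf_pos _)
  have hx' : w * x ∈ Z := by
    rcases hcx with e | e <;> rw [e]
    exacts [h.conj x hx c, h.conj y hy c]
  have hwT : w ∈ T := zpowers_le.2 (T.mul_mem hxT hyT) hwz
  refine F.mul_notMem h hx (F.le hxT) hx' (F.le (T.mul_mem hwT hxT)) (hwx.symm.mul_right (Commute.refl x))
    (fun e => hw1 (mul_eq_right.1 e.symm)) ?_
  rw [← mul_assoc, ← hwx.eq, mul_assoc, h.mul_self hx, mul_one]
  exact zpowers_le.2 hk hwz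

/-- Members in `T` centralise `T ⊓ kernel`. -/
theorem commute_kernel [Finite G] {a r : G} (ha : a ∈ Z) (haT : a ∈ T) (hr : r ∈ T)
    (hrk : r ∈ kernel M C) : Commute r a := by
  have h1 := F.eq_of_mul_mem h ha haT (h.conj a ha r) (T.mul_mem (T.mul_mem hr haT) (T.inv_mem hr)) (by
    have h2 := conj_mem_kernel hrk (F.mem_C haT)
    rw [Invol.inv_of_orderOf_two (h.inv a ha)] at h2
    have := mul_mem h2 (inv_mem hrk)
    rwa [show a * (r * a * r⁻¹) = a * r * a * r⁻¹ by group])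
  exact mul_inv_eq_iff_eq_mul.1 h1.symm

/-- Members in `T` whose commutator lies in the kernel commute. -/
theorem commute_of_mod [Finite G] {x y : G} (hx : x ∈ Z) (hxT : x ∈ T) (hy : y ∈ Z) (hyT : y ∈ T)
    (hk : x * y * (x * y) ∈ kernel M C) : Commute x y := by
  have hyy := Invol.inv_of_orderOf_two (h.inv y hy)
  have h1 := F.eq_of_mul_mem h hx hxT (h.conj x hx y) (T.mul_mem (T.mul_mem hyT hxT) (T.inv_mem hyT)) (by
    rwa [hyy, show x * (y * x * y) = x * y * (x * y) by group])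
  exact (mul_inv_eq_iff_eq_mul.1 h1.symm).symm

/-- A member of `C` moves by the kernel to one centralising `T ⊓ kernel`. -/
theorem exists_lift [Finite G] {x m : G} (hx : x ∈ Z) (hxT : x ∈ T) (hm : m ∈ Z) (hmC : m ∈ C) :
    ∃ n ∈ kernel M C, ∀ r ∈ T ⊓ kernel M C, Commute (n * m * n⁻¹) r := by
  set R := T ⊓ kernel M C with hR
  obtain ⟨c₀, hc₀, hc₀M⟩ := SetLike.not_le_iff_exists.1 F.out
  obtain ⟨k, hk, hkm⟩ := h.conj_in (C := C) hx (F.le hxT) (F.mem_C hxT) (h.conj x hx c₀)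
    (fun e => hc₀M (h.moves x hx (F.le hxT) c₀ e))
    (C.mul_mem (C.mul_mem hc₀ (F.mem_C hxT)) (C.inv_mem hc₀)) hm hmC
  have hkC : k ∈ C := (closure_le C).2 Set.inter_subset_right hk
  have hQk : R.map (MulAut.conj k).toMonoidHom ≤ kernel M C := by
    rintro _ ⟨r, hr, rfl⟩
    exact conj_mem_kernel hr.2 hkC
  obtain ⟨n, hn, hnT⟩ := F.move ((F.sylow.2.1.to_le inf_le_left).map _) (hQk.trans le_sup_left)
  have heq : R.map (MulAut.conj (n * k)).toMonoidHom = R := by
    refine Subgroup.eq_of_le_of_card_ge ?_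
      (Subgroup.card_map_of_injective (MulAut.conj (n * k)).injective).ge
    rintro _ ⟨r, hr, rfl⟩
    have h1 : k * r * k⁻¹ ∈ R.map (MulAut.conj k).toMonoidHom := ⟨r, hr, rfl⟩
    refine mem_inf.2 ⟨by simpa [mul_assoc] using hnT _ h1, ?_⟩
    simpa [mul_assoc] using conj_mem_kernel (hQk h1) (kernel_le hn)
  refine ⟨n, hn, fun r hr => ?_⟩
  rw [← heq] at hr
  obtain ⟨r₀, hr₀, rfl⟩ := hr
  have hc := F.commute_kernel h hx hxT hr₀.1 hr₀.2
  rw [← hkm]
  refine Commute.symm ?_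
  show n * k * r₀ * (n * k)⁻¹ * (n * (k * x * k⁻¹) * n⁻¹) = n * (k * x * k⁻¹) * n⁻¹ * (n * k * r₀ * (n * k)⁻¹)
  calc n * k * r₀ * (n * k)⁻¹ * (n * (k * x * k⁻¹) * n⁻¹) = n * k * (r₀ * x) * (n * k)⁻¹ := by group
    _ = n * k * (x * r₀) * (n * k)⁻¹ := by rw [hc.eq]
    _ = _ := by group

end Frame

end Cfsg.Agent.Fus.SingleCrit
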