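import Mathlib
import Cfsg.Agent.Lib.Fus.SingleCriterion.Frame

/-!
# The hypothesis for `C` modulo its kernel on the points
-/

set_option autoImplicit false

namespace Cfsg.Agent.Fus.SingleCrit

open Subgroup

universe u

variable {G : Type u} [Group G] {Z : Set G} {M : Subgroup G}

/-- A 2-subgroup of `C` with a member in `M` lies in a frame. -/
theorem Hyp.exists_frame [Finite G] (h : Hyp Z M) {C W : Subgroup G} (hWC : W ≤ C) (hW : IsPGroup 2 W)
    {z : G} (hz : z ∈ Z) (hzW : z ∈ W) (hzM : z ∈ M) (hC : ¬ C ≤ M) : ∃ T, W ≤ T ∧ Frame Z M C T := by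
  obtain ⟨T, hWT, hT⟩ := SClosedSE.exists_twoSylowIn hWC hW
  exact ⟨T, hWT, hT, h.twoGroup_le hT.2.1 hz (hWT hzW) hzM, ⟨z, hz, hWT hzW⟩, hC⟩

/-- Conjugation inside `C` and `M`. -/
theorem Frame.conj [Finite G] {C T : Subgroup G} (F : Frame Z M C T) (h : Hyp Z M) {c z : G} (hc : c ∈ C)
    (hz : z ∈ Z) (hzT : c⁻¹ * z * c ∈ T) (hzM : z ∈ M) : Frame Z M C (T.map (MulAut.conj c).toMonoidHom) := by
  have hle : T.map (MulAut.conj c).toMonoidHom ≤ C := by
    rintro _ ⟨t, ht, rfl⟩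
    exact C.mul_mem (C.mul_mem hc (F.mem_C ht)) (C.inv_mem hc)
  have hmem : z ∈ T.map (MulAut.conj c).toMonoidHom := Invol.mem_map_conj.2 hzT
  refine ⟨⟨hle, F.sylow.2.1.map _, fun Q hQ hQ2 => ?_⟩, h.twoGroup_le (F.sylow.2.1.map _) hz hmem hzM,
    ⟨z, hz, hmem⟩, F.out⟩
  obtain ⟨m, hm, hmq⟩ := F.sylow.2.2 Q hQ hQ2
  refine ⟨c * m, C.mul_mem hc hm, fun q hq => Invol.mem_map_conj.2 ?_⟩
  simpa [mul_assoc] using hmq q hq

/-- The image class. -/
def zbar (Z : Set G) (M C : Subgroup G) : Set (↥C ⧸ (M.subgroupOf C).normalCore) :=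
  QuotientGroup.mk' _ '' {x : ↥C | (x : G) ∈ Z}

/-- The image of `M`. -/
def mbar (M C : Subgroup G) : Subgroup (↥C ⧸ (M.subgroupOf C).normalCore) :=
  (M.subgroupOf C).map (QuotientGroup.mk' _)

theorem mem_mbar {C : Subgroup G} {x : ↥C} : QuotientGroup.mk' _ x ∈ mbar M C ↔ (x : G) ∈ M := by
  refine ⟨?_, fun hx => ⟨x, hx, rfl⟩⟩
  rintro ⟨y, hy, e⟩
  have h1 : y⁻¹ * x ∈ (M.subgroupOf C).normalCore := QuotientGroup.eq.1 e
  have h2 : ((y⁻¹ * x : ↥C) : G) ∈ M := Subgroup.normalCore_le (M.subgroupOf C) h1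
  have := M.mul_mem hy h2
  simpa using this

theorem mk_eq_one {C : Subgroup G} {x : ↥C} :
    QuotientGroup.mk' (M.subgroupOf C).normalCore x = 1 ↔ (x : G) ∈ kernel M C :=
  (QuotientGroup.eq_one_iff x).trans
    ⟨fun hx => ⟨x, hx, rfl⟩, fun ⟨y, hy, e⟩ => Subtype.ext e ▸ hy⟩

theorem mbar_normalCore {C : Subgroup G} : (mbar M C).normalCore = ⊥ := by
  refine (Subgroup.eq_bot_iff_forall _).2 fun q hq => ?_
  obtain ⟨x, rfl⟩ := QuotientGroup.mk'_surjective _ q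
  refine mk_eq_one.2 (mem_kernel.2 ⟨x.2, fun c hc => ?_⟩)
  have := hq (QuotientGroup.mk' _ ⟨c, hc⟩)
  rw [← map_mul, ← map_inv, ← map_mul] at this
  exact mem_mbar.1 this

/-- The hypothesis for the faithful image of `C`. -/
theorem Frame.hyp_bar [Finite G] {C T : Subgroup G} (F : Frame Z M C T) (h : Hyp Z M)
    (hfull : ∀ z ∈ Z, (∀ w ∈ T, Commute w z) → z ∈ C) : Hyp (zbar Z M C) (mbar M C) := by
  haveI : Fact (Nat.Prime 2) := ⟨Nat.prime_two⟩
  set π := QuotientGroup.mk' (M.subgroupOf C).normalCore with hπ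
  have hsurj : Function.Surjective π := QuotientGroup.mk'_surjective _
  have hone : ∀ x : ↥C, (x : G) ∈ Z → π x ≠ 1 := fun x hx e => by
    obtain ⟨-, hk⟩ := mem_kernel.1 (mk_eq_one.1 e)
    exact F.out fun c hc => h.moves _ hx (by simpa using hk 1 C.one_mem) c (hk c hc)
  have hsingle : ∀ x : ↥C, Single M (x : G) → Single (mbar M C) (π x) := fun x hx g hg => by
    obtain ⟨g, rfl⟩ := hsurj g
    rw [← map_inv, ← map_mul, ← map_mul] at hg
    exact mem_mbar.2 (hx g (mem_mbar.1 hg))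
  obtain ⟨S, hS⟩ := F.sylow.sylow
  refine ⟨?_, ?_, ?_, ?_, ?_, fun e => F.out fun c hc => mem_mbar.1 (e ▸ mem_top (π ⟨c, hc⟩))⟩
  · rintro _ ⟨x, hx, rfl⟩
    exact Invol.orderOf_two_iff.2 ⟨by rw [← map_mul, show x * x = 1 from Subtype.ext (h.mul_self hx), map_one],
      hone x hx⟩
  · rintro _ ⟨x, hx, rfl⟩ g
    obtain ⟨g, rfl⟩ := hsurj g
    exact ⟨g * x * g⁻¹, h.conj _ hx _, by rw [← map_inv, ← map_mul, ← map_mul]⟩
  · rintro _ ⟨x, hx, rfl⟩ hxM
    exact hsingle x (h.moves _ hx (mem_mbar.1 hxM))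
  · rintro _ ⟨x, hx, rfl⟩ hxM _ ⟨y, hy, rfl⟩ hyM hc hne
    -- move the images into one frame
    set Q := Subgroup.closure ({π x, π y} : Set _) with hQ
    have hx2 : orderOf (π x) = 2 := Invol.orderOf_two_iff.2
      ⟨by rw [← map_mul, show x * x = 1 from Subtype.ext (h.mul_self hx), map_one], hone x hx⟩
    have hy2 : orderOf (π y) = 2 := Invol.orderOf_two_iff.2
      ⟨by rw [← map_mul, show y * y = 1 from Subtype.ext (h.mul_self hy), map_one], hone y hy⟩
    have hxy2 : orderOf (π x * π y) = 2 := Invol.orderOf_two_iff.2 ⟨by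
      have hc' : Commute (π y) (π x) := hc.symm
      rw [hc'.mul_mul_mul_comm, Invol.mul_self_of_orderOf_two hx2, Invol.mul_self_of_orderOf_two hy2, one_mul],
      Invol.mul_ne_one_of_ne hx2 hne⟩
    obtain ⟨g, hg⟩ := Invol.exists_conj_subset_sylow
      (Invol.isPGroup_closure_pair hx2 hy2 (a := 1) (by rw [hxy2, pow_one])) (S.mapSurjective hsurj)
    obtain ⟨c, rfl⟩ := hsurj g
    -- a lift of each image in the moved frame
    have hlift : ∀ w : ↥C, (w : G) ∈ Z → π c * π w * (π c)⁻¹ ∈ ((S.mapSurjective hsurj : Sylow 2 _) : Subgroup _) →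
        ∃ n ∈ kernel M C, (c : G) * (n * w * n⁻¹) * (c : G)⁻¹ ∈ T := by
      intro w hw hwg
      rw [Sylow.coe_mapSurjective] at hwg
      obtain ⟨t, ht, hte⟩ := hwg
      have hte' : π t = π (c * w * c⁻¹) := by rw [hte, map_mul, map_mul, map_inv]
      have hk : (t : G)⁻¹ * ((c : G) * w * (c : G)⁻¹) ∈ kernel M C :=
        (mk_eq_one (x := t⁻¹ * (c * w * c⁻¹))).1 (by rw [map_mul, map_inv, hte', inv_mul_cancel])
      have htT : (t : G) ∈ T := by rw [hS] at ht; exact ht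
      have hwle : Subgroup.zpowers ((c : G) * w * (c : G)⁻¹) ≤ kernel M C ⊔ T := zpowers_le.2 (by
        rw [sup_comm, show (c : G) * w * (c : G)⁻¹ = (t : G) * ((t : G)⁻¹ * ((c : G) * w * (c : G)⁻¹)) by group]
        exact mul_mem (mem_sup_left htT) (mem_sup_right hk))
      obtain ⟨n, hn, hnq⟩ := F.move (Invol.isPGroup_zpowers (n := 1)
        (by rw [Invol.orderOf_conj_eq, h.inv _ hw, pow_one])) hwle
      refine ⟨(c : G)⁻¹ * n * c, by simpa using conj_mem_kernel hn (C.inv_mem c.2), ?_⟩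
      simpa [mul_assoc] using hnq _ (mem_zpowers _)
    obtain ⟨n, hn, hnT⟩ := hlift x hx (hg _ Invol.left_mem_closure_pair)
    obtain ⟨l, hl, hlT⟩ := hlift y hy (hg _ Invol.right_mem_closure_pair)
    have hnC := kernel_le hn
    have hlC := kernel_le hl
    have hnM := kernel_le_right hn
    have hlM := kernel_le_right hl
    set x₁ := n * (x : G) * n⁻¹ with hx₁
    set y₁ := l * (y : G) * l⁻¹ with hy₁
    have hx₁Z := h.conj _ hx n
    have hy₁Z := h.conj _ hy l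
    have hx₁M : x₁ ∈ M := M.mul_mem (M.mul_mem hnM (mem_mbar.1 hxM)) (M.inv_mem hnM)
    have hy₁M : y₁ ∈ M := M.mul_mem (M.mul_mem hlM (mem_mbar.1 hyM)) (M.inv_mem hlM)
    have F' := F.conj h (C.inv_mem c.2) hx₁Z (by rw [inv_inv]; exact hnT) hx₁M
    have hmem : ∀ {w : G}, (c : G) * w * (c : G)⁻¹ ∈ T → w ∈ T.map (MulAut.conj (c : G)⁻¹).toMonoidHom :=
      fun hw => Invol.mem_map_conj.2 (by rw [inv_inv]; exact hw)
    let x' : ↥C := ⟨x₁, C.mul_mem (C.mul_mem hnC x.2) (C.inv_mem hnC)⟩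
    let y' : ↥C := ⟨y₁, C.mul_mem (C.mul_mem hlC y.2) (C.inv_mem hlC)⟩
    have hπn : π ⟨n, hnC⟩ = 1 := mk_eq_one.2 hn
    have hπl : π ⟨l, hlC⟩ = 1 := mk_eq_one.2 hl
    have hxe : π x' = π x := by
      rw [show x' = ⟨n, hnC⟩ * x * ⟨n, hnC⟩⁻¹ from rfl, map_mul, map_mul, map_inv, hπn]; simp
    have hye : π y' = π y := by
      rw [show y' = ⟨l, hlC⟩ * y * ⟨l, hlC⟩⁻¹ from rfl, map_mul, map_mul, map_inv, hπl]; simp
    have hcomm : Commute x₁ y₁ := F'.commute_of_mod h hx₁Z (hmem hnT) hy₁Z (hmem hlT) (by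
      refine (mk_eq_one (x := x' * y' * (x' * y'))).1 ?_
      rw [map_mul, map_mul, hxe, hye]
      exact Invol.mul_self_of_orderOf_two hxy2)
    have hne₁ : x₁ ≠ y₁ := fun e => hne (by rw [← hxe, ← hye, show x' = y' from Subtype.ext e])
    have := hsingle (x' * y') (h.pair _ hx₁Z hx₁M _ hy₁Z hy₁M hcomm hne₁)
    rwa [map_mul, hxe, hye] at this
  · obtain ⟨z, hz, hzM, hzc⟩ := h.exists_member_commute F.sylow.2.1 F.le
    have hzC := hfull z hz hzc
    have hzT : z ∈ T := by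
      by_contra hzT
      have hgen : IsPGroup 2 ↥(Subgroup.zpowers z ⊔ T) := by
        refine IsPGroup.to_sup_of_normal_right' (Invol.isPGroup_zpowers (n := 1) (by rw [h.inv z hz, pow_one]))
          F.sylow.2.1 (zpowers_le.2 (mem_normalizer_iff.2 fun t => ⟨fun ht => ?_, fun ht => ?_⟩))
        · rwa [← (hzc t ht).eq, mul_inv_cancel_right]
        · have := hzc _ ht
          have e : z * t * z⁻¹ = t := by
            have e1 : z * t * z⁻¹ * z = z * (z * t * z⁻¹) := this.eq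
            rw [inv_mul_cancel_right] at e1
            exact (mul_left_cancel e1).symm
          rwa [e] at ht
      refine hzT ?_
      have hle : T ≤ Subgroup.zpowers z ⊔ T := le_sup_right
      rw [Subgroup.eq_of_le_of_card_ge hle (F.sylow.card_le (sup_le (zpowers_le.2 hzC) F.sylow.1) hgen)]
      exact mem_sup_left (mem_zpowers z)
    refine ⟨S.mapSurjective hsurj, ?_, π ⟨z, hzC⟩, ⟨_, hz, rfl⟩, ?_, fun p hp => ?_⟩
    · rw [Sylow.coe_mapSurjective, hS]
      rintro _ ⟨t, ht, rfl⟩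
      exact mem_mbar.2 (F.le ht)
    · show π ⟨z, hzC⟩ ∈ ((S.mapSurjective hsurj : Sylow 2 _) : Subgroup _)
      rw [Sylow.coe_mapSurjective, hS]
      exact ⟨_, hzT, rfl⟩
    · have hp' : p ∈ ((S.mapSurjective hsurj : Sylow 2 _) : Subgroup _) := hp
      rw [Sylow.coe_mapSurjective, hS] at hp'
      obtain ⟨t, ht, rfl⟩ := hp'
      exact (show Commute t (⟨z, hzC⟩ : ↥C) from Subtype.ext (hzc _ ht).eq).map π

end Cfsg.Agent.Fus.SingleCrit
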