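import Mathlib
import Cfsg.Agent.Lib.Fus.RootClass.SEInvolutions
import Cfsg.Agent.Lib.Fus.SingleCriterion.Quotient

/-!
# The defect of a frame is constant

When the image of `M` is strongly embedded, two members in `T` have a third member with product in the kernel,
and this product is the same for all pairs: an odd group of the two-point stabiliser is transitive on the members,
so averaging over it fixes the product.
-/

set_option autoImplicit false

namespace Cfsg.Agent.Fus.SingleCrit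

open Subgroup

universe u

variable {G : Type u} [Group G] {Z : Set G} {M C T : Subgroup G}

/-- Members in `T` with the same image are equal. -/
theorem Frame.eq_of_mk_eq [Finite G] (F : Frame Z M C T) (h : Hyp Z M) {a b : ↥C} (ha : (a : G) ∈ Z)
    (haT : (a : G) ∈ T) (hb : (b : G) ∈ Z) (hbT : (b : G) ∈ T)
    (e : QuotientGroup.mk' (M.subgroupOf C).normalCore a = QuotientGroup.mk' (M.subgroupOf C).normalCore b) :
    a = b := by
  refine Subtype.ext (F.eq_of_mul_mem h ha haT hb hbT ?_)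
  have : a⁻¹ * b ∈ (M.subgroupOf C).normalCore := QuotientGroup.eq.1 e
  have h2 := (mk_eq_one (x := a⁻¹ * b)).1 ((QuotientGroup.eq_one_iff _).2 this)
  rwa [Subgroup.coe_mul, Subgroup.coe_inv, Invol.inv_of_orderOf_two (h.inv _ ha)] at h2

theorem isPGroup_closure_invol [Finite G] {S : Set G} (h2 : ∀ x ∈ S, x * x = 1)
    (hc : ∀ x ∈ S, ∀ y ∈ S, Commute x y) : IsPGroup 2 ↥(Subgroup.closure S) := by
  have hcl : ∀ x ∈ Subgroup.closure S, ∀ y ∈ Subgroup.closure S, Commute x y := fun x hx y hy => by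
    have h1 : Subgroup.closure S ≤ Subgroup.centralizer S :=
      (closure_le _).2 fun a ha => mem_centralizer_iff.2 fun b hb => (hc b hb a ha).eq
    have h3 : Subgroup.closure S ≤ Subgroup.centralizer ({x} : Set G) := (closure_le _).2 fun a ha =>
      mem_centralizer_singleton_iff.2 (mem_centralizer_iff.1 (h1 hx) a ha)
    exact (mem_centralizer_singleton_iff.1 (h3 hy)).symm
  have hsq : ∀ x ∈ Subgroup.closure S, x * x = 1 := fun x hx => by
    induction hx using Subgroup.closure_induction with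
    | mem a ha => exact h2 a ha
    | one => exact one_mul 1
    | mul a b ha hb e1 e2 => rw [(hcl b hb a ha).mul_mul_mul_comm, e1, e2, one_mul]
    | inv a _ e => rw [← mul_inv_rev, e, inv_one]
  exact fun g => ⟨1, Subtype.ext (by rw [pow_one, SubmonoidClass.coe_pow, pow_two, Subgroup.coe_one]; exact hsq g g.2)⟩

/-- The members of a frame: a third one, and a constant product. -/
theorem Frame.constant [Finite G] (F : Frame Z M C T) (h : Hyp Z M)
    (hfull : ∀ z ∈ Z, (∀ w ∈ T, Commute w z) → z ∈ C)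
    (hiso : Tight.Isolated (mbar M C) (Subgroup.closure (zbar Z M C))) :
    (∀ x ∈ Z, x ∈ T → ∀ y ∈ Z, y ∈ T → Commute x y) ∧
    (∀ x ∈ Z, x ∈ T → ∀ y ∈ Z, y ∈ T → x ≠ y → ∃ d ∈ Z, d ∈ T ∧ x * y * d ∈ kernel M C) ∧
    ∀ x ∈ Z, x ∈ T → ∀ y ∈ Z, y ∈ T → x ≠ y → ∀ d ∈ Z, d ∈ T → x * y * d ∈ kernel M C →
      ∀ x' ∈ Z, x' ∈ T → ∀ y' ∈ Z, y' ∈ T → x' ≠ y' → ∀ d' ∈ Z, d' ∈ T → x' * y' * d' ∈ kernel M C →
        x * y * d = x' * y' * d' := by
  classical
  haveI : Fact (Nat.Prime 2) := ⟨Nat.prime_two⟩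
  have hb := F.hyp_bar h hfull
  set π := QuotientGroup.mk' (M.subgroupOf C).normalCore with hπ
  have hsurj : Function.Surjective π := QuotientGroup.mk'_surjective _
  set K := Subgroup.closure (zbar Z M C) with hK
  haveI hKn : K.Normal := ⟨fun n hn g => by
    have h1 : K.map (MulAut.conj g).toMonoidHom ≤ K := by
      rw [hK, MonoidHom.map_closure, closure_le]
      rintro _ ⟨x, hx, rfl⟩
      exact subset_closure (hb.conj x hx g)
    exact h1 ⟨n, hn, rfl⟩⟩
  set H := (mbar M C).subgroupOf K with hH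
  have hse : Cfsg.IsStronglyEmbedded H := Tight.isolated_iff.1 hiso
  obtain ⟨z₀, hz₀, hz₀M⟩ := hb.exists_member
  obtain ⟨e₀, he₀, he₀M⟩ := hb.exists_outside
  have hcore : H.normalCore = ⊥ := by
    refine (Subgroup.eq_bot_iff_forall _).2 fun g hg => Subtype.ext ?_
    have : (g : ↥C ⧸ _) ∈ (mbar M C).normalCore := by
      intro c
      obtain ⟨k, hk, hke⟩ := hb.conj_in (C := ⊤) hz₀ hz₀M (mem_top _) he₀ he₀M (mem_top _)
        (hb.conj z₀ hz₀ c⁻¹) (mem_top _)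
      have hkK : k ∈ K := closure_mono (Set.inter_subset_left) hk
      have hm : k⁻¹ * c⁻¹ ∈ mbar M C := by
        refine (hb.moves z₀ hz₀ hz₀M).mem_of_commute hz₀M ?_
        show k⁻¹ * c⁻¹ * z₀ = z₀ * (k⁻¹ * c⁻¹)
        calc k⁻¹ * c⁻¹ * z₀ = k⁻¹ * (c⁻¹ * z₀ * c⁻¹⁻¹) * c⁻¹ := by group
          _ = k⁻¹ * (k * z₀ * k⁻¹) * c⁻¹ := by rw [hke]
          _ = z₀ * (k⁻¹ * c⁻¹) := by group
      have hg' := hg ⟨k⁻¹, inv_mem hkK⟩
      rw [hH, mem_subgroupOf] at hg'
      have hg'' : k⁻¹ * (g : ↥C ⧸ _) * k⁻¹⁻¹ ∈ mbar M C := hg'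
      have := mul_mem (mul_mem (inv_mem hm) hg'') hm
      rwa [show (k⁻¹ * c⁻¹)⁻¹ * (k⁻¹ * (g : ↥C ⧸ _) * k⁻¹⁻¹) * (k⁻¹ * c⁻¹) = c * (g : ↥C ⧸ _) * c⁻¹ by group] at this
    rw [mbar_normalCore, mem_bot] at this
    exact this
  have hπZ : ∀ a : ↥C, (a : G) ∈ Z → π a ∈ zbar Z M C := fun a ha => ⟨a, ha, rfl⟩
  have hπK : ∀ a : ↥C, (a : G) ∈ Z → π a ∈ K := fun a ha => subset_closure (hπZ a ha)
  -- two commuting involutions give pairwise commuting ones
  have hrank : ∀ {s t : ↥C ⧸ (M.subgroupOf C).normalCore}, s ∈ K → t ∈ K → orderOf s = 2 → orderOf t = 2 →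
      s ≠ t → Commute s t → ∀ a b, a ∈ K → a ∈ mbar M C → orderOf a = 2 → b ∈ K → b ∈ mbar M C →
      orderOf b = 2 → Commute a b := by
    intro s t hs ht hs2 ht2 hst hc a b ha haM ha2 hb' hbM hb2
    have hr : Invol.Bender.TwoRank (⊤ : Subgroup ↥K) := ⟨⟨s, hs⟩, mem_top _, ⟨t, ht⟩, mem_top _,
      by rwa [Subgroup.orderOf_mk], by rwa [Subgroup.orderOf_mk], fun e => hst (congrArg Subtype.val e),
      Subtype.ext hc.eq⟩
    exact congrArg Subtype.val (RootClass.commute_involutions hse hcore hr (s := ⟨a, ha⟩) (t := ⟨b, hb'⟩)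
      (by rwa [Subgroup.orderOf_mk]) haM (by rwa [Subgroup.orderOf_mk]) hbM).eq
  have hord : ∀ a : ↥C, (a : G) ∈ Z → orderOf (π a) = 2 := fun a ha => hb.inv _ (hπZ a ha)
  have hTM : ∀ a : ↥C, (a : G) ∈ T → π a ∈ mbar M C := fun a ha => mem_mbar.2 (F.le ha)
  -- members in `T` commute
  have hcomm : ∀ x ∈ Z, x ∈ T → ∀ y ∈ Z, y ∈ T → Commute x y := by
    intro x hx hxT y hy hyT
    refine F.commute_of_mod h hx hxT hy hyT ?_
    set a : ↥C := ⟨x, F.mem_C hxT⟩
    set b : ↥C := ⟨y, F.mem_C hyT⟩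
    refine (mk_eq_one (x := a * b * (a * b))).1 ?_
    have hsuff : Commute (π a) (π b) → π (a * b * (a * b)) = 1 := fun hc => by
      rw [map_mul, map_mul, hc.symm.mul_mul_mul_comm, Invol.mul_self_of_orderOf_two (hord a hx),
        Invol.mul_self_of_orderOf_two (hord b hy), one_mul]
    by_cases he : Even (orderOf (π a * π b))
    · obtain ⟨w, hw1, hwa, hwb, hwz, -⟩ := exists_middle (hord a hx) (hord b hy) he (orderOf_pos _)
      refine hsuff ?_
      by_contra hnc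
      have hwK : w ∈ K := zpowers_le.2 (mul_mem (hπK a hx) (hπK b hy)) hwz
      have hw2 : orderOf w = 2 := by
        obtain ⟨r, hr⟩ := he
        refine Invol.orderOf_two_iff.2 ⟨?_, hw1⟩
        obtain ⟨i, rfl⟩ := mem_zpowers_iff.1 hwz
        have hinv : π a * (π a * π b) ^ i * (π a)⁻¹ = ((π a * π b) ^ i)⁻¹ := by
          rw [← conj_zpow, Invol.conj_mul_eq_inv (hord a hx) (hord b hy), inv_zpow]
        rw [← hwa.eq, mul_inv_cancel_right] at hinv
        exact eq_inv_iff_mul_eq_one.1 hinv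
      refine hnc (hrank (hπK a hx) hwK (hord a hx) hw2 (fun e => hnc ?_) hwa.symm _ _ (hπK a hx) (hTM a hxT)
        (hord a hx) (hπK b hy) (hTM b hyT) (hord b hy))
      exact e ▸ hwb
    · -- a product of odd order in a 2-group
      have hab : π (a * b) = 1 := by
        obtain ⟨k, hk⟩ := IsPGroup.iff_orderOf.1 F.sylow.2.1 ⟨x * y, T.mul_mem hxT hyT⟩
        rw [Subgroup.orderOf_mk] at hk
        have hd : orderOf (π (a * b)) ∣ 2 ^ k := by
          rw [← hk, show orderOf (x * y) = orderOf (a * b) from orderOf_coe (a * b)]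
          exact orderOf_map_dvd _ _
        rw [← orderOf_eq_one_iff]
        obtain ⟨j, -, hj⟩ := (Nat.dvd_prime_pow Nat.prime_two).1 hd
        rcases j with _ | j
        · rw [hj, pow_zero]
        · exfalso
          rw [map_mul] at hj
          exact he (hj ▸ by rw [pow_succ]; exact even_two.mul_left _)
      rw [map_mul, hab, one_mul]
  -- the images of the members
  obtain ⟨S, hS⟩ := F.sylow.sylow
  have hSbar : ∀ q ∈ ((S.mapSurjective hsurj : Sylow 2 _) : Subgroup _), ∃ t : ↥C, (t : G) ∈ T ∧ π t = q := by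
    intro q hq
    rw [Sylow.coe_mapSurjective, hS] at hq
    obtain ⟨t, ht, rfl⟩ := hq
    exact ⟨t, ht, rfl⟩
  have hpair : ∀ x (hx : x ∈ Z) (hxT : x ∈ T), ∀ y (hy : y ∈ Z) (hyT : y ∈ T), x ≠ y →
      π ⟨x, F.mem_C hxT⟩ ≠ π ⟨y, F.mem_C hyT⟩ := fun x hx hxT y hy hyT hne e =>
    hne (congrArg Subtype.val (F.eq_of_mk_eq h (a := ⟨x, _⟩) (b := ⟨y, _⟩) hx hxT hy hyT e))
  have hcbar : ∀ x (hx : x ∈ Z) (hxT : x ∈ T), ∀ y (hy : y ∈ Z) (hyT : y ∈ T),
      Commute (π ⟨x, F.mem_C hxT⟩) (π ⟨y, F.mem_C hyT⟩) := fun x hx hxT y hy hyT =>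
    (show Commute (⟨x, F.mem_C hxT⟩ : ↥C) ⟨y, F.mem_C hyT⟩ from Subtype.ext (hcomm x hx hxT y hy hyT).eq).map π
  -- every involution of the stabiliser is the image of a member in `T`
  have hrep : ∀ x (hx : x ∈ Z) (hxT : x ∈ T), ∀ y (hy : y ∈ Z) (hyT : y ∈ T), x ≠ y →
      ∀ q, q ∈ K → q ∈ mbar M C → orderOf q = 2 → ∃ a : ↥C, (a : G) ∈ Z ∧ (a : G) ∈ T ∧ π a = q := by
    intro x hx hxT y hy hyT hne q hqK hqM hq2
    set I : Set (↥C ⧸ (M.subgroupOf C).normalCore) := {r | r ∈ K ∧ r ∈ mbar M C ∧ orderOf r = 2}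
    have hIc : ∀ r ∈ I, ∀ r' ∈ I, Commute r r' := fun r hr r' hr' =>
      hrank (hπK ⟨x, F.mem_C hxT⟩ hx) (hπK ⟨y, F.mem_C hyT⟩ hy) (hord _ hx) (hord _ hy) (hpair x hx hxT y hy hyT hne)
        (hcbar x hx hxT y hy hyT) r r' hr.1 hr.2.1 hr.2.2 hr'.1 hr'.2.1 hr'.2.2
    set Sb := ((S.mapSurjective hsurj : Sylow 2 _) : Subgroup (↥C ⧸ (M.subgroupOf C).normalCore))
    have hSbM : Sb ≤ mbar M C := fun r hr => by
      obtain ⟨t, ht, rfl⟩ := hSbar r hr
      exact mem_mbar.2 (F.le ht)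
    have hIn : Sb ≤ normalizer (Subgroup.closure I : Set _) := fun g hg => by
      refine Invol.mem_normalizer_of_map_eq (Subgroup.eq_of_le_of_card_ge ?_
        (Subgroup.card_map_of_injective (MulAut.conj g).injective).ge)
      rw [MonoidHom.map_closure, closure_le]
      rintro _ ⟨r, ⟨hrK, hrM, hr2⟩, rfl⟩
      exact subset_closure ⟨hKn.conj_mem r hrK g, mul_mem (mul_mem (hSbM hg) hrM) (inv_mem (hSbM hg)),
        (Invol.orderOf_conj_eq g r).trans hr2⟩
    have hsup : IsPGroup 2 ↥(Sb ⊔ Subgroup.closure I) := IsPGroup.to_sup_of_normal_right'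
      (S.mapSurjective hsurj).isPGroup' (isPGroup_closure_invol
        (fun r hr => Invol.mul_self_of_orderOf_two hr.2.2) hIc) hIn
    have hqS : q ∈ Sb := by
      have := (S.mapSurjective hsurj).is_maximal' hsup le_sup_left
      exact this.le (mem_sup_right (subset_closure ⟨hqK, hqM, hq2⟩))
    obtain ⟨t, htT, hte⟩ := hSbar q hqS
    obtain ⟨k, hk⟩ := _root_.isConj_iff.1 (Invol.isConj_involutions hse
      (a := ⟨π ⟨x, F.mem_C hxT⟩, hπK _ hx⟩) (b := ⟨q, hqK⟩) (by rw [Subgroup.orderOf_mk]; exact hord _ hx)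
      (by rw [Subgroup.orderOf_mk]; exact hq2))
    obtain ⟨m, hm, hme⟩ := hb.conj _ (hπZ ⟨x, F.mem_C hxT⟩ hx) (k : ↥C ⧸ _)
    have hmq : π m = q := hme.trans (congrArg Subtype.val hk)
    have hk2 : (t : G)⁻¹ * m ∈ kernel M C :=
      (mk_eq_one (x := t⁻¹ * m)).1 (by rw [map_mul, map_inv, hmq, ← hte, inv_mul_cancel])
    obtain ⟨n, hn, hnT⟩ := F.move (Invol.isPGroup_zpowers (n := 1) (by rw [h.inv _ hm, pow_one]))
      (zpowers_le.2 (show (m : G) ∈ kernel M C ⊔ T by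
        rw [show (m : G) = (t : G) * ((t : G)⁻¹ * m) by group]
        exact mul_mem (mem_sup_right htT) (mem_sup_left hk2)))
    refine ⟨⟨n, kernel_le hn⟩ * m * ⟨n, kernel_le hn⟩⁻¹, h.conj _ hm n, hnT _ (mem_zpowers _), ?_⟩
    rw [map_mul, map_mul, map_inv, (mk_eq_one (x := ⟨n, kernel_le hn⟩)).2 hn, one_mul, inv_one, mul_one, hmq]
  have hthird : ∀ x ∈ Z, x ∈ T → ∀ y ∈ Z, y ∈ T → x ≠ y → ∃ d ∈ Z, d ∈ T ∧ x * y * d ∈ kernel M C := by
    intro x hx hxT y hy hyT hne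
    set a : ↥C := ⟨x, F.mem_C hxT⟩
    set b : ↥C := ⟨y, F.mem_C hyT⟩
    have hab : orderOf (π a * π b) = 2 := Invol.orderOf_two_iff.2 ⟨by
      rw [(hcbar y hy hyT x hx hxT).mul_mul_mul_comm, Invol.mul_self_of_orderOf_two (hord a hx),
        Invol.mul_self_of_orderOf_two (hord b hy), one_mul],
      Invol.mul_ne_one_of_ne (hord a hx) (hpair x hx hxT y hy hyT hne)⟩
    obtain ⟨d, hd, hdT, hde⟩ := hrep x hx hxT y hy hyT hne _ (mul_mem (hπK a hx) (hπK b hy))
      (mul_mem (hTM a hxT) (hTM b hyT)) hab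
    exact ⟨d, hd, hdT, (mk_eq_one (x := a * b * d)).1
      (by rw [map_mul, map_mul, hde]; exact Invol.mul_self_of_orderOf_two hab)⟩
  refine ⟨hcomm, hthird, ?_⟩
  -- the group of the members
  set E := Subgroup.closure (Z ∩ (T : Set G)) with hE
  have hEc : ∀ p ∈ E, ∀ p' ∈ E, Commute p p' := fun p hp p' hp' => by
    have h1 : E ≤ Subgroup.centralizer (Z ∩ (T : Set G)) :=
      (closure_le _).2 fun a ha => mem_centralizer_iff.2 fun b hb => (hcomm b hb.1 hb.2 a ha.1 ha.2).eq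
    have h3 : E ≤ Subgroup.centralizer ({p} : Set G) := (closure_le _).2 fun a ha =>
      mem_centralizer_singleton_iff.2 (mem_centralizer_iff.1 (h1 hp) a ha)
    exact (mem_centralizer_singleton_iff.1 (h3 hp')).symm
  have hET : E ≤ T := (closure_le _).2 fun a ha => ha.2
  letI : CommGroup ↥E :=
    { (inferInstance : Group ↥E) with mul_comm := fun p p' => Subtype.ext (hEc p p.2 p' p'.2).eq }
  intro x hx hxT y hy hyT hne
  obtain ⟨ax, hax⟩ : ∃ a : ↥C, a = ⟨x, F.mem_C hxT⟩ := ⟨_, rfl⟩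
  -- an odd group transitive on the images of the members
  obtain ⟨u₀, hu₀⟩ : ∃ u₀ : ↥K, u₀ = ⟨e₀, subset_closure he₀⟩ := ⟨_, rfl⟩
  have hu₀2 : orderOf u₀ = 2 := by rw [hu₀, Subgroup.orderOf_mk]; exact hb.inv e₀ he₀
  have hu₀H : u₀ ∉ H := fun e => he₀M (by rw [hu₀] at e; exact e)
  set D := H ⊓ H.map (MulAut.conj u₀).toMonoidHom with hD
  have hDodd : Odd (Nat.card ↥D) := hse.2.2 u₀ hu₀H
  haveI : Fintype ↥D := Fintype.ofFinite _
  have hDK : ∀ k : ↥D, ((k : ↥K) : ↥C ⧸ _) ∈ mbar M C := fun k => k.2.1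
  -- the member with a given image
  have hσ : ∀ (k : ↥D) (a : ↥C), (a : G) ∈ Z → (a : G) ∈ T →
      ∃ b : ↥C, (b : G) ∈ Z ∧ (b : G) ∈ T ∧
        π b = (k : ↥K) * π a * ((k : ↥K) : ↥C ⧸ (M.subgroupOf C).normalCore)⁻¹ := fun k a ha haT =>
    hrep x hx hxT y hy hyT hne _ (hKn.conj_mem _ (hπK a ha) _)
      (mul_mem (mul_mem (hDK k) (hTM a haT)) (inv_mem (hDK k))) ((Invol.orderOf_conj_eq _ _).trans (hord a ha))
  choose σ hσZ hσT hσe using hσ
  set P : ∀ a : ↥C, (a : G) ∈ Z → (a : G) ∈ T → ↥E := fun a ha haT =>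
    ∏ k : ↥D, ⟨(σ k a ha haT : G), subset_closure ⟨hσZ k a ha haT, hσT k a ha haT⟩⟩ with hP
  have hPeq : ∀ (a : ↥C) (ha : (a : G) ∈ Z) (haT : (a : G) ∈ T) (b : ↥C) (hb' : (b : G) ∈ Z) (hbT : (b : G) ∈ T),
      P a ha haT = P b hb' hbT := by
    intro a ha haT b hb' hbT
    obtain ⟨d, hd, hde⟩ := Invol.exists_conj_inf hse hu₀2 hu₀H (s := ⟨π a, hπK a ha⟩) (t := ⟨π b, hπK b hb'⟩)
      (by rw [Subgroup.orderOf_mk]; exact hord a ha) (hTM a haT) (by rw [Subgroup.orderOf_mk]; exact hord b hb')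
      (hTM b hbT)
    have hde' : (d : ↥C ⧸ _) * π a * (d : ↥C ⧸ (M.subgroupOf C).normalCore)⁻¹ = π b := congrArg Subtype.val hde
    symm
    refine Fintype.prod_equiv (Equiv.mulRight (⟨d, hd⟩ : ↥D)) _ _ fun k => Subtype.ext ?_
    refine congrArg (fun e : ↥C => (e : G)) (F.eq_of_mk_eq h (hσZ _ _ _ _) (hσT _ _ _ _) (hσZ _ _ _ _) (hσT _ _ _ _) ?_)
    rw [← hπ, hσe, hσe]
    simp only [Equiv.coe_mulRight, Subgroup.coe_mul, ← hde']
    group
  -- lifts centralising the kernel part of `T`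
  set R := T ⊓ kernel M C with hR
  have hlift : ∀ q ∈ K, ∃ c : ↥C, π c = q ∧ ∀ r ∈ R, Commute (c : G) r := by
    have hle : K ≤ ((Subgroup.centralizer (R : Set G)).subgroupOf C).map π := by
      rw [hK, closure_le]
      rintro _ ⟨m, hm, rfl⟩
      obtain ⟨n, hn, hnc⟩ := F.exists_lift h hx hxT hm m.2
      have hnC := kernel_le hn
      refine ⟨⟨n, hnC⟩ * m * ⟨n, hnC⟩⁻¹, mem_centralizer_iff.2 fun r hr => (hnc r hr).symm.eq, ?_⟩
      rw [map_mul, map_mul, map_inv, (mk_eq_one (x := ⟨n, hnC⟩)).2 hn, one_mul, inv_one, mul_one]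
    intro q hq
    obtain ⟨c, hc, rfl⟩ := hle hq
    exact ⟨c, rfl, fun r hr => (mem_centralizer_iff.1 hc r hr).symm⟩
  have hRc : ∀ r ∈ R, ∀ p ∈ Z, p ∈ T → Commute r p := fun r hr p hp hpT => F.commute_kernel h hp hpT hr.1 hr.2
  -- the product is the average
  have key : ∀ (a : ↥C) (ha : (a : G) ∈ Z) (haT : (a : G) ∈ T) (b : ↥C) (hb' : (b : G) ∈ Z) (hbT : (b : G) ∈ T)
      (d : ↥C) (hd : (d : G) ∈ Z) (hdT : (d : G) ∈ T), (a : G) * b * d ∈ kernel M C →
      (a : G) * b * d = (P ax (hax ▸ hx) (hax ▸ hxT) : G) := by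
    intro a ha haT b hb' hbT d hd hdT hk
    obtain ⟨f, hf⟩ : ∃ f, f = (a : G) * b * d := ⟨_, rfl⟩
    have hfE : f ∈ E := hf ▸ mul_mem (mul_mem (subset_closure ⟨ha, haT⟩) (subset_closure ⟨hb', hbT⟩))
      (subset_closure ⟨hd, hdT⟩)
    have hfR : f ∈ R := mem_inf.2 ⟨hET hfE, hf ▸ hk⟩
    have hk' : ∀ k : ↥D, (σ k a ha haT : G) * σ k b hb' hbT * σ k d hd hdT = f := by
      intro k
      obtain ⟨c, hck, hcR⟩ := hlift _ (k : ↥K).2
      have hcM : (c : G) ∈ M := mem_mbar.1 (hck.symm ▸ hDK k : π c ∈ mbar M C)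
      set Y := kernel M C ⊓ Subgroup.centralizer ({f} : Set G) with hY
      set P' := R ⊔ E with hP'
      have hP'T : P' ≤ T := sup_le inf_le_left hET
      have hP'f : ∀ p ∈ P', Commute p f := by
        have : P' ≤ Subgroup.centralizer ({f} : Set G) := sup_le (fun r hr => by
            refine mem_centralizer_singleton_iff.2 ?_
            rw [hf]
            exact (((hRc r hr _ ha haT).mul_right (hRc r hr _ hb' hbT)).mul_right (hRc r hr _ hd hdT)).eq)
          fun p hp => mem_centralizer_singleton_iff.2 (hEc p hp f hfE).eq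
        exact fun p hp => mem_centralizer_singleton_iff.1 (this hp)
      have hn : P' ≤ normalizer (Y : Set G) := by
        intro p hp
        have hpC := F.mem_C (hP'T hp)
        refine Invol.mem_normalizer_of_map_eq (Subgroup.eq_of_le_of_card_ge ?_
          (Subgroup.card_map_of_injective (MulAut.conj p).injective).ge)
        rintro _ ⟨v, hv, rfl⟩
        refine mem_inf.2 ⟨conj_mem_kernel hv.1 hpC, mem_centralizer_singleton_iff.2 ?_⟩
        exact (((hP'f p hp).mul_left (mem_centralizer_singleton_iff.1 hv.2)).mul_left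
          (hP'f p hp).inv_left).eq
      have hRY : R ≤ Y := le_inf inf_le_right fun r hr =>
        mem_centralizer_singleton_iff.2 (hP'f r (mem_sup_left hr)).eq
      have hodd : ¬ 2 ∣ P'.relIndex Y := fun hd2 => by
        refine F.odd_relIndex ?_
        rw [← inf_relIndex_right, ← hR, ← relIndex_mul_relIndex R Y (kernel M C) hRY inf_le_left]
        exact (hd2.trans (relIndex_dvd_of_le_left (L := Y) (le_sup_left : R ≤ P'))).mul_right _
      have hY' : ∀ (p : ↥C) (hp : (p : G) ∈ Z) (hpT : (p : G) ∈ T),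
          Commute ((c : G) * p * (c : G)⁻¹) f ∧ (c : G) * p * (c : G)⁻¹ ∈ Y ⊔ P' := by
        intro p hp hpT
        have hc1 : Commute ((c : G) * p * (c : G)⁻¹) f :=
          ((hcR f hfR).mul_left (hRc f hfR _ hp hpT).symm).mul_left (hcR f hfR).inv_left
        refine ⟨hc1, ?_⟩
        have hmem : (σ k p hp hpT : G) ∈ P' := mem_sup_right (subset_closure ⟨hσZ _ _ _ _, hσT _ _ _ _⟩)
        rw [show (c : G) * p * (c : G)⁻¹ =
          (c : G) * p * (c : G)⁻¹ * (σ k p hp hpT : G)⁻¹ * σ k p hp hpT by group]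
        refine mul_mem (mem_sup_left (mem_inf.2 ⟨?_, mem_centralizer_singleton_iff.2
          (hc1.mul_left (hP'f _ hmem).inv_left).eq⟩)) (mem_sup_right hmem)
        exact (mk_eq_one (x := c * p * c⁻¹ * (σ k p hp hpT)⁻¹)).1
          (by rw [map_mul, map_inv, map_mul, map_mul, map_inv, hck, ← hπ, hσe, mul_inv_cancel])
      set S' : Set G := {(c : G) * a * (c : G)⁻¹, (c : G) * b * (c : G)⁻¹, (c : G) * d * (c : G)⁻¹} with hS'
      have hS'm : ∀ v ∈ S', ∃ p : ↥C, (p : G) ∈ Z ∧ (p : G) ∈ T ∧ v = (c : G) * p * (c : G)⁻¹ := by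
        rintro v (rfl | rfl | rfl)
        exacts [⟨a, ha, haT, rfl⟩, ⟨b, hb', hbT, rfl⟩, ⟨d, hd, hdT, rfl⟩]
      have hQle : Subgroup.closure S' ≤ Y ⊔ P' := (closure_le _).2 fun v hv => by
        obtain ⟨p, hp, hpT, rfl⟩ := hS'm v hv
        exact (hY' p hp hpT).2
      have hQ2 : IsPGroup 2 ↥(Subgroup.closure S') := isPGroup_closure_invol (fun v hv => by
        obtain ⟨p, hp, hpT, rfl⟩ := hS'm v hv
        exact h.mul_self (h.conj _ hp _)) fun v hv v' hv' => by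
          obtain ⟨p, hp, hpT, rfl⟩ := hS'm v hv
          obtain ⟨p', hp', hpT', rfl⟩ := hS'm v' hv'
          have hcp := (hcomm _ hp hpT _ hp' hpT').eq
          calc (c : G) * p * (c : G)⁻¹ * (c * p' * (c : G)⁻¹) = c * ((p : G) * p') * (c : G)⁻¹ := by group
            _ = c * ((p' : G) * p) * (c : G)⁻¹ := by rw [hcp]
            _ = _ := by group
      obtain ⟨n, hnY, hnP⟩ := exists_conj_mem_of_odd (F.sylow.2.1.to_le hP'T) hn hodd hQ2 hQle
      have himg : ∀ (p : ↥C) (hp : (p : G) ∈ Z) (hpT : (p : G) ∈ T), (c : G) * p * (c : G)⁻¹ ∈ S' →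
          (σ k p hp hpT : G) = n * ((c : G) * p * (c : G)⁻¹) * n⁻¹ := by
        intro p hp hpT hv
        have hnC : n ∈ C := kernel_le hnY.1
        refine congrArg Subtype.val (F.eq_of_mk_eq h (a := σ k p hp hpT)
          (b := ⟨n, hnC⟩ * (c * p * c⁻¹) * ⟨n, hnC⟩⁻¹) (hσZ _ _ _ _) (hσT _ _ _ _) (h.conj _ (h.conj _ hp _) _)
          (hP'T (hnP _ (subset_closure hv))) ?_)
        rw [← hπ, hσe, map_mul, map_mul, map_mul, map_mul, map_inv, map_inv,
          (mk_eq_one (x := ⟨n, hnC⟩)).2 hnY.1, hck, one_mul, inv_one, mul_one]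
      have hnf : Commute n f := mem_centralizer_singleton_iff.1 hnY.2
      rw [himg a ha haT (Or.inl rfl), himg b hb' hbT (Or.inr (Or.inl rfl)), himg d hd hdT (Or.inr (Or.inr rfl))]
      calc n * ((c : G) * a * (c : G)⁻¹) * n⁻¹ * (n * (c * b * (c : G)⁻¹) * n⁻¹) * (n * (c * d * (c : G)⁻¹) * n⁻¹)
          = n * ((c : G) * ((a : G) * b * d) * (c : G)⁻¹) * n⁻¹ := by group
        _ = f := by rw [← hf, (hcR f hfR).eq, mul_inv_cancel_right, hnf.eq, mul_inv_cancel_right]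
    have hsq : ∀ p : ↥E, p * p = 1 := fun p => Subtype.ext (by
      obtain ⟨j, hj⟩ := (isPGroup_closure_invol (S := Z ∩ (T : Set G)) (fun v hv => h.mul_self hv.1)
        fun v hv v' hv' => hcomm v hv.1 hv.2 v' hv'.1 hv'.2) p
      have : ∀ v ∈ E, v * v = 1 := fun v hv => by
        induction hv using Subgroup.closure_induction with
        | mem w hw => exact h.mul_self hw.1
        | one => exact one_mul 1
        | mul w w' hw hw' e1 e2 => rw [(hEc w' hw' w hw).mul_mul_mul_comm, e1, e2, one_mul]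
        | inv w _ e => rw [← mul_inv_rev, e, inv_one]
      exact this p p.2)
    have hprod : P a ha haT * P b hb' hbT * P d hd hdT = (⟨f, hfE⟩ : ↥E) := by
      simp only [hP, ← Finset.prod_mul_distrib]
      rw [Finset.prod_congr rfl fun k _ => show _ = (⟨f, hfE⟩ : ↥E) from Subtype.ext (hk' k), Finset.prod_const]
      obtain ⟨m, hm⟩ := hDodd
      rw [Finset.card_univ, ← Nat.card_eq_fintype_card, hm, pow_succ, pow_mul, pow_two, hsq, one_pow, one_mul]
    rw [hPeq a ha haT ax (hax ▸ hx) (hax ▸ hxT), hPeq b hb' hbT ax (hax ▸ hx) (hax ▸ hxT),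
      hPeq d hd hdT ax (hax ▸ hx) (hax ▸ hxT), hsq, one_mul] at hprod
    exact hf ▸ (congrArg Subtype.val hprod).symm
  intro d hd hdT hk x' hx' hxT' y' hy' hyT' hne' d' hd' hdT' hk'
  exact (key ⟨x, F.mem_C hxT⟩ hx hxT ⟨y, F.mem_C hyT⟩ hy hyT ⟨d, F.mem_C hdT⟩ hd hdT hk).trans
    (key ⟨x', F.mem_C hxT'⟩ hx' hxT' ⟨y', F.mem_C hyT'⟩ hy' hyT' ⟨d', F.mem_C hdT'⟩ hd' hdT' hk').symm

end Cfsg.Agent.Fus.SingleCrit
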