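import Mathlib
import Cfsg.Agent.Lib.Invol.ZStar
import Cfsg.Agent.Lib.Grp.CoprimeAbelian
import Cfsg.Agent.Lib.Fus.SingleCriterion.Constant

/-!
# No involution is a product of three members

A non-single involution `γ` of `M` which is the defect of a frame is central in a Sylow subgroup, isolated
there, and so lies in the core of `M` by the `Z*`-theorem.
-/

set_option autoImplicit false

namespace Cfsg.Agent.Fus.SingleCrit

open Subgroup

universe u

variable {G : Type u} [Group G] {Z : Set G} {M : Subgroup G}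

/-- The configuration at the defect `γ`. -/
structure Cfg (Z : Set G) (M : Subgroup G) (γ : G) (P : Sylow 2 G) : Prop where
  le : (P : Subgroup G) ≤ M
  mem : γ ∈ (P : Subgroup G)
  inv : orderOf γ = 2
  central : ∀ p ∈ (P : Subgroup G), Commute p γ
  out : ¬ Subgroup.centralizer ({γ} : Set G) ≤ M
  comm : ∀ x ∈ Z, x ∈ (P : Subgroup G) → ∀ y ∈ Z, y ∈ (P : Subgroup G) → Commute x y
  third : ∀ x ∈ Z, x ∈ (P : Subgroup G) → ∀ y ∈ Z, y ∈ (P : Subgroup G) → x ≠ y →
    ∃ d ∈ Z, d ∈ (P : Subgroup G) ∧ x * y * d = γ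
  two : ∃ a ∈ Z, a ∈ (P : Subgroup G) ∧ ∃ b ∈ Z, b ∈ (P : Subgroup G) ∧ a ≠ b

namespace Cfg

variable {γ : G} {P : Sylow 2 G} (K : Cfg Z M γ P) (h : Hyp Z M)
include K

theorem mem_smul {g w : G} : w ∈ ((g • P : Sylow 2 G) : Subgroup G) ↔ g⁻¹ * w * g ∈ (P : Subgroup G) := by
  rw [Sylow.coe_subgroup_smul, Subgroup.mem_pointwise_smul_iff_inv_smul_mem]
  simp

include h

theorem notMem : γ ∉ Z := fun hz => K.out fun c hc =>
  h.mem_of_commute hz (K.le K.mem) (mem_centralizer_singleton_iff.1 hc)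

theorem unique {x y d d' : G} (e : x * y * d = γ) (e' : x * y * d' = γ) : d = d' :=
  mul_left_cancel (e.trans e'.symm)

/-- Conjugation by `M`. -/
theorem conj {g : G} (hg : g ∈ M) : Cfg Z M (g * γ * g⁻¹) (g • P) := by
  have hback : ∀ {w : G}, w ∈ (P : Subgroup G) → g * w * g⁻¹ ∈ ((g • P : Sylow 2 G) : Subgroup G) :=
    fun hw => K.mem_smul.2 (by simpa [mul_assoc] using hw)
  have hfwd : ∀ {w : G}, w ∈ ((g • P : Sylow 2 G) : Subgroup G) →
      ∃ v ∈ (P : Subgroup G), w = g * v * g⁻¹ := fun {w} hw => ⟨g⁻¹ * w * g, K.mem_smul.1 hw, by group⟩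
  refine ⟨fun w hw => ?_, hback K.mem, (Invol.orderOf_conj_eq g γ).trans K.inv, fun w hw => ?_,
    fun hle => K.out fun c hc => ?_, fun x hx hxP y hy hyP => ?_, fun x hx hxP y hy hyP hne => ?_, ?_⟩
  · obtain ⟨v, hv, rfl⟩ := hfwd hw
    exact M.mul_mem (M.mul_mem hg (K.le hv)) (M.inv_mem hg)
  · obtain ⟨v, hv, rfl⟩ := hfwd hw
    exact (K.central v hv).map (MulAut.conj g)
  · have h1 : g * c * g⁻¹ ∈ M := hle (mem_centralizer_singleton_iff.2
      ((show Commute c γ from mem_centralizer_singleton_iff.1 hc).map (MulAut.conj g)).eq)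
    have := M.mul_mem (M.mul_mem (M.inv_mem hg) h1) hg
    simpa [mul_assoc] using this
  · obtain ⟨v, hv, rfl⟩ := hfwd hxP
    obtain ⟨w, hw, rfl⟩ := hfwd hyP
    have hvZ : v ∈ Z := by simpa [mul_assoc] using h.conj _ hx g⁻¹
    have hwZ : w ∈ Z := by simpa [mul_assoc] using h.conj _ hy g⁻¹
    exact (K.comm v hvZ hv w hwZ hw).map (MulAut.conj g)
  · obtain ⟨v, hv, rfl⟩ := hfwd hxP
    obtain ⟨w, hw, rfl⟩ := hfwd hyP
    have hvZ : v ∈ Z := by simpa [mul_assoc] using h.conj _ hx g⁻¹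
    have hwZ : w ∈ Z := by simpa [mul_assoc] using h.conj _ hy g⁻¹
    obtain ⟨d, hd, hdP, hde⟩ := K.third v hvZ hv w hwZ hw (fun e => hne (by rw [e]))
    exact ⟨g * d * g⁻¹, h.conj d hd g, hback hdP, by rw [← hde]; group⟩
  · obtain ⟨a, ha, haP, b, hb, hbP, hne⟩ := K.two
    exact ⟨_, h.conj a ha g, hback haP, _, h.conj b hb g, hback hbP,
      fun e => hne (mul_left_cancel (mul_right_cancel e))⟩

theorem le_centralizer : (P : Subgroup G) ≤ Subgroup.centralizer ({γ} : Set G) := fun p hp =>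
  mem_centralizer_singleton_iff.2 (K.central p hp).eq

/-- A member at the point commuting with `γ` times `γ` is single. -/
theorem single_mul [Finite G] {d : G} (hd : d ∈ Z) (hdM : d ∈ M) (hc : Commute d γ) : Single M (d * γ) := by
  haveI : Fact (Nat.Prime 2) := ⟨Nat.prime_two⟩
  obtain ⟨k, hk⟩ := Invol.exists_conj_mem_sylow
    (x := (⟨d, mem_centralizer_singleton_iff.2 hc.eq⟩ : ↥(Subgroup.centralizer ({γ} : Set G)))) (n := 1)
    (by rw [Subgroup.orderOf_mk, h.inv d hd, pow_one]) (P.subtype (K.le_centralizer h))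
  have hkP : (k : G) * d * (k : G)⁻¹ ∈ (P : Subgroup G) := hk
  set d' := (k : G) * d * (k : G)⁻¹ with hd'
  have hd'Z : d' ∈ Z := h.conj d hd k
  have hkM : (k : G) ∈ M := h.moves d hd hdM k (K.le hkP)
  obtain ⟨x, hx, hxP, hxne⟩ : ∃ x ∈ Z, x ∈ (P : Subgroup G) ∧ d' ≠ x := by
    obtain ⟨a, ha, haP, b, hb, hbP, hne⟩ := K.two
    by_cases e : d' = a
    · exact ⟨b, hb, hbP, e ▸ hne⟩
    · exact ⟨a, ha, haP, e⟩
  obtain ⟨e, he, heP, hee⟩ := K.third d' hd'Z hkP x hx hxP hxne
  have hne : x ≠ e := fun e1 => K.notMem h (by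
    rw [← hee, ← e1, mul_assoc, h.mul_self hx, mul_one]; exact hd'Z)
  have hs := h.pair x hx (K.le hxP) e he (K.le heP) (K.comm x hx hxP e he heP) hne
  have heq : x * e = (k : G) * (d * γ) * (k : G)⁻¹ := by
    have hkγ : Commute (k : G) γ := mem_centralizer_singleton_iff.1 k.2
    calc x * e = d' * (d' * x * e) := by rw [← mul_assoc, ← mul_assoc, h.mul_self hd'Z, one_mul]
      _ = d' * γ := by rw [hee]
      _ = (k : G) * d * ((k : G)⁻¹ * γ) := by rw [hd']; group
      _ = (k : G) * d * (γ * (k : G)⁻¹) := by rw [hkγ.inv_left.eq]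
      _ = _ := by group
  rw [heq] at hs
  have := hs.conj (M.inv_mem hkM)
  simpa [mul_assoc] using this

/-- An element of the Sylow subgroup fixes a member. -/
theorem exists_fixed [Finite G] {x : G} (hx : x ∈ (P : Subgroup G)) (hx2 : x * x = 1) :
    ∃ d ∈ Z, d ∈ (P : Subgroup G) ∧ Commute x d := by
  classical
  haveI : Fact (Nat.Prime 2) := ⟨Nat.prime_two⟩
  obtain ⟨a, ha, haP, b, hb, hbP, hab⟩ := K.two
  set A : Set G := {w | w ∈ Z ∧ w ∈ (P : Subgroup G)} with hA
  -- pairing the members other than `a`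
  have hch : ∀ y : ↥(A \ {a}), ∃ d : ↥(A \ {a}), a * y * d = γ ∧ d ≠ y := by
    rintro ⟨y, ⟨hy, hyP⟩, hya⟩
    have hya' : a ≠ y := fun e => hya e.symm
    obtain ⟨d, hd, hdP, hde⟩ := K.third a ha haP y hy hyP hya'
    have hda : d ≠ a := fun e => K.notMem h (by
      rw [← hde, e, mul_assoc, (K.comm y hy hyP a ha haP).eq, ← mul_assoc, h.mul_self ha, one_mul]; exact hy)
    exact ⟨⟨d, ⟨hd, hdP⟩, hda⟩, hde, fun e => K.notMem h (by
      have e' : d = y := congrArg Subtype.val e
      rw [← hde, e', mul_assoc, h.mul_self hy, mul_one]; exact ha)⟩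
  choose f hf hfne using hch
  have hinvol : Function.Involutive f := fun y => Subtype.ext (by
    refine K.unique h (hf (f y)) ?_
    rw [mul_assoc, (K.comm _ (f y).2.1.1 (f y).2.1.2 _ y.2.1.1 y.2.1.2).eq, ← mul_assoc]
    exact hf y)
  haveI := Fintype.ofFinite ↥(A \ {a})
  have heven : Even (Nat.card ↥(A \ {a})) := by
    by_contra ho
    rw [Nat.not_even_iff_odd] at ho
    obtain ⟨y, hy⟩ := Equiv.Perm.exists_fixed_point_of_prime (σ := hinvol.toPerm) (p := 2) (n := 1)
      (by rw [← Nat.card_eq_fintype_card]; exact ho.not_two_dvd_nat)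
      (Equiv.ext fun y => by rw [pow_one, pow_two]; exact hinvol y)
    exact hfne y hy
  have hodd : Odd (Nat.card ↥A) := by
    rw [Nat.card_coe_set_eq] at heven ⊢
    rw [← Set.ncard_sdiff_singleton_add_one (show a ∈ A from ⟨ha, haP⟩) (Set.toFinite A)]
    exact heven.add_one
  have hmaps : ∀ w ∈ A, x * w * x⁻¹ ∈ A := fun w hw =>
    ⟨h.conj w hw.1 x, mul_mem (mul_mem hx hw.2) (inv_mem hx)⟩
  have hxi : x⁻¹ = x := inv_eq_of_mul_eq_one_right hx2
  let g : ↥A → ↥A := fun w => ⟨x * w * x⁻¹, hmaps w w.2⟩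
  have hg : Function.Involutive g := fun w => Subtype.ext (by
    show x * (x * (w : G) * x⁻¹) * x⁻¹ = w
    rw [hxi, ← mul_assoc, ← mul_assoc, hx2, one_mul, mul_assoc, hx2, mul_one])
  haveI := Fintype.ofFinite ↥A
  obtain ⟨d, hd⟩ := Equiv.Perm.exists_fixed_point_of_prime (σ := hg.toPerm) (p := 2) (n := 1)
      (by rw [← Nat.card_eq_fintype_card]; exact hodd.not_two_dvd_nat)
      (Equiv.ext fun y => by rw [pow_one, pow_two]; exact hg y)
  exact ⟨d, d.2.1, d.2.2, mul_inv_eq_iff_eq_mul.1 (congrArg Subtype.val hd)⟩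

/-- `γ` is weakly closed. -/
theorem eq_of_conj [Finite G] {g₀ : G} (hx : g₀ * γ * g₀⁻¹ ∈ (P : Subgroup G)) : g₀ * γ * g₀⁻¹ = γ := by
  haveI : Fact (Nat.Prime 2) := ⟨Nat.prime_two⟩
  obtain ⟨x, hxdef⟩ : ∃ x, x = g₀ * γ * g₀⁻¹ := ⟨_, rfl⟩
  rw [← hxdef] at hx ⊢
  have hxM := K.le hx
  have hx2 : orderOf x = 2 := hxdef ▸ (Invol.orderOf_conj_eq g₀ γ).trans K.inv
  have hxx := Invol.mul_self_of_orderOf_two hx2
  obtain ⟨d₀, hd₀, hd₀P, hxd₀⟩ := K.exists_fixed h hx hxx
  -- the configuration at `x`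
  obtain ⟨g, hgM, hgx, hgP⟩ : ∃ g ∈ M, g * γ * g⁻¹ = x ∧
      ∀ w ∈ (P : Subgroup G), Commute w x → w ∈ ((g • P : Sylow 2 G) : Subgroup G) := by
    obtain ⟨R, hWR, hR⟩ := SClosedSE.exists_twoSylowIn (R₀ := (P : Subgroup G) ⊓ Subgroup.centralizer ({x} : Set G))
      inf_le_right (P.isPGroup'.to_le inf_le_left)
    have hRM : R ≤ M := h.twoGroup_le hR.2.1 hd₀
      (hWR ⟨hd₀P, mem_centralizer_singleton_iff.2 hxd₀.symm.eq⟩) (K.le hd₀P)
    have hPC : ((P : Subgroup G).map (MulAut.conj g₀).toMonoidHom) ≤ Subgroup.centralizer ({x} : Set G) := by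
      rintro _ ⟨p, hp, rfl⟩
      exact mem_centralizer_singleton_iff.2 (hxdef ▸ ((K.central p hp).map (MulAut.conj g₀)).eq)
    obtain ⟨k, hk, hkR⟩ := hR.2.2 _ hPC (P.isPGroup'.map _)
    have hmapR : (((k * g₀) • P : Sylow 2 G) : Subgroup G) ≤ R := fun w hw => by
      have h1 := K.mem_smul.1 hw
      have := hkR _ ⟨_, h1, rfl⟩
      simpa [mul_assoc] using this
    obtain ⟨z₁, hz₁, hz₁P, -⟩ := K.two
    refine ⟨k * g₀, ?_, ?_, fun w hw hc => ?_⟩
    · refine h.moves z₁ hz₁ (K.le hz₁P) _ (hRM (hmapR (K.mem_smul.2 ?_)))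
      simpa [mul_assoc] using hz₁P
    · have hkx : Commute k x := mem_centralizer_singleton_iff.1 hk
      calc k * g₀ * γ * (k * g₀)⁻¹ = k * x * k⁻¹ := by rw [hxdef]; group
        _ = x := by rw [hkx.eq, mul_inv_cancel_right]
    · have he := ((k * g₀) • P).is_maximal' hR.2.1 hmapR
      exact he ▸ hWR ⟨hw, mem_centralizer_singleton_iff.2 hc.eq⟩
  have K' : Cfg Z M x (g • P) := hgx ▸ K.conj h hgM
  by_cases hall : ∀ w ∈ Z, w ∈ (P : Subgroup G) → Commute x w
  · -- the same members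
    have hback : ∀ w ∈ Z, w ∈ ((g • P : Sylow 2 G) : Subgroup G) → w ∈ (P : Subgroup G) := by
      set A : Set G := {w | w ∈ Z ∧ w ∈ (P : Subgroup G)}
      set A' : Set G := {w | w ∈ Z ∧ w ∈ ((g • P : Sylow 2 G) : Subgroup G)}
      have hsub : A ⊆ A' := fun w hw => ⟨hw.1, hgP w hw.2 (hall w hw.1 hw.2).symm⟩
      have himg : A' = (fun w => g * w * g⁻¹) '' A := by
        ext w
        refine ⟨fun hw => ⟨g⁻¹ * w * g, ⟨by simpa using h.conj w hw.1 g⁻¹, K.mem_smul.1 hw.2⟩, by group⟩, ?_⟩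
        rintro ⟨v, hv, rfl⟩
        exact ⟨h.conj v hv.1 g, K.mem_smul.2 (by simpa [mul_assoc] using hv.2)⟩
      have hcard : A'.ncard = A.ncard := by
        rw [himg]
        exact Set.ncard_image_of_injective _ fun v w e => mul_left_cancel (mul_right_cancel e)
      have heq := Set.eq_of_subset_of_ncard_le hsub hcard.le (Set.toFinite A')
      intro w hw hwP
      exact (show w ∈ A from heq.symm ▸ (⟨hw, hwP⟩ : w ∈ A')).2
    obtain ⟨a, ha, haP, b, hb, hbP, hab⟩ := K.two
    obtain ⟨d, hd, hdP, hde⟩ := K.third a ha haP b hb hbP hab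
    obtain ⟨d', hd', hd'P, hde'⟩ := K'.third a ha (hgP a haP (hall a ha haP).symm) b hb
      (hgP b hbP (hall b hb hbP).symm) hab
    by_contra hne
    have hdd : d ≠ d' := fun e => hne (by rw [← hde', ← e, hde])
    obtain ⟨d'', hd'', hd''P, hde''⟩ := K.third d hd hdP d' hd' (hback d' hd' hd'P) hdd
    have hgc : Commute γ d'' := (K.central d'' hd''P).symm
    refine K'.notMem h ?_
    have hxd : x = γ * d * d' := by rw [← hde, mul_assoc _ d d, h.mul_self hd, mul_one, hde']
    rw [show x = d'' by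
      calc x = γ * (d * d' * d'') * d'' := by
            rw [hxd, mul_assoc γ (d * d' * d'') d'', mul_assoc (d * d') d'' d'', h.mul_self hd'', mul_one, mul_assoc]
        _ = d'' := by rw [hde'', Invol.mul_self_of_orderOf_two K.inv, one_mul]]
    exact hd''
  · exfalso
    push Not at hall
    obtain ⟨a₁, ha₁, ha₁P, hnc⟩ := hall
    have hxi : x⁻¹ = x := Invol.inv_of_orderOf_two hx2
    set a₂ := x * a₁ * x⁻¹ with ha₂
    have ha₂Z : a₂ ∈ Z := h.conj a₁ ha₁ x
    have ha₂P : a₂ ∈ (P : Subgroup G) := mul_mem (mul_mem hx ha₁P) (inv_mem hx)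
    have hne : a₁ ≠ a₂ := fun e => hnc (mul_inv_eq_iff_eq_mul.1 e.symm)
    obtain ⟨d, hd, hdP, hde⟩ := K.third a₁ ha₁ ha₁P a₂ ha₂Z ha₂P hne
    have hxd : Commute x d := by
      have h1 : a₁ * a₂ * (x * d * x⁻¹) = γ := by
        rw [(K.comm a₁ ha₁ ha₁P a₂ ha₂Z ha₂P).eq, ← show x * (a₁ * a₂ * d) * x⁻¹ = γ by
          rw [hde, (K.central x hx).eq, mul_inv_cancel_right]]
        have hxa : x * a₂ * x⁻¹ = a₁ := by
          rw [ha₂, hxi, ← mul_assoc, ← mul_assoc, hxx, one_mul, mul_assoc, hxx, mul_one]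
        calc a₂ * a₁ * (x * d * x⁻¹) = x * a₁ * x⁻¹ * (x * a₂ * x⁻¹) * (x * d * x⁻¹) := by rw [hxa]
          _ = x * (a₁ * a₂ * d) * x⁻¹ := by group
      exact mul_inv_eq_iff_eq_mul.1 (K.unique h h1 hde)
    -- the conjugate by `a₁`
    have ha₁i : a₁⁻¹ = a₁ := Invol.inv_of_orderOf_two (h.inv a₁ ha₁)
    have Kd : Cfg Z M (a₁ * x * a₁⁻¹) (a₁ • (g • P)) := K'.conj h (K.le ha₁P)
    have hdx' : Commute d (a₁ * x * a₁⁻¹) :=
      ((K.comm d hd hdP a₁ ha₁ ha₁P).mul_right hxd.symm).mul_right (K.comm d hd hdP a₁ ha₁ ha₁P).inv_right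
    have heq : d * (a₁ * x * a₁⁻¹) = x * γ := by
      have h1 : a₁ * x * a₁⁻¹ = a₁ * a₂ * x := by rw [ha₂, ha₁i]; group
      have h2 : a₁ * a₂ = γ * d := by rw [← hde, mul_assoc, h.mul_self hd, mul_one]
      rw [h1, h2, ← (K.central d hdP).eq, ← mul_assoc, ← mul_assoc, h.mul_self hd, one_mul,
        ← (K.central x hx).eq]
    have hq : Single M (x * γ) := heq ▸ Kd.single_mul h hd (K.le hdP) hdx'
    have hqM : x * γ ∈ M := M.mul_mem hxM (K.le K.mem)
    -- a member outside `M` commuting with `x` and `γ` is absurd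
    have hno : ∀ e ∈ Z, Commute e x → Commute e γ → e ∈ M := fun e _ he1 he2 =>
      hq.mem_of_commute hqM (he1.mul_right he2)
    obtain ⟨c, hc, hcM⟩ := SetLike.not_le_iff_exists.1 K.out
    have hcγ : Commute c γ := mem_centralizer_singleton_iff.1 hc
    obtain ⟨z₀, hz₀, hz₀P, -⟩ := K.two
    have hz₀M := K.le hz₀P
    by_cases hcx : c⁻¹ * x * c ∈ M
    · have hW : Subgroup.closure ({c⁻¹ * x * c, γ} : Set G) ≤ M :=
        (closure_le _).2 (Set.insert_subset hcx (Set.singleton_subset_iff.2 (K.le K.mem)))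
      have hcxγ : Commute (c⁻¹ * x * c) γ := (hcγ.inv_left.mul_left (K.central x hx)).mul_left hcγ
      obtain ⟨m, hm, hmM, hmc⟩ := h.exists_member_commute (isPGroup_closure_invol (fun v hv => by
        rcases hv with rfl | rfl
        · calc c⁻¹ * x * c * (c⁻¹ * x * c) = c⁻¹ * (x * x) * c := by group
            _ = 1 := by rw [hxx]; group
        · exact Invol.mul_self_of_orderOf_two K.inv) fun v hv v' hv' => by
        rcases hv with rfl | rfl <;> rcases hv' with rfl | rfl
        exacts [Commute.refl _, hcxγ, hcxγ.symm, Commute.refl _]) hW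
      refine hcM (h.moves m hm hmM c (hno _ (h.conj m hm c) ?_ ?_))
      · have h1 : Commute (c⁻¹ * x * c) m := hmc _ (subset_closure (Or.inl rfl))
        have h2 := (h1.map (MulAut.conj c)).symm
        simpa [mul_assoc] using h2
      · have h1 : Commute γ m := hmc _ (subset_closure (Or.inr rfl))
        exact ((hcγ.mul_left h1.symm).mul_left hcγ.inv_left)
    · obtain ⟨e, hedef⟩ : ∃ e, e = c * z₀ * c⁻¹ := ⟨_, rfl⟩
      obtain ⟨e', he'def⟩ : ∃ e', e' = x * e * x⁻¹ := ⟨_, rfl⟩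
      have heZ : e ∈ Z := hedef ▸ h.conj z₀ hz₀ c
      have he'Z : e' ∈ Z := he'def ▸ h.conj e heZ x
      have heγ : Commute e γ := hedef ▸ (hcγ.mul_left (K.central z₀ hz₀P)).mul_left hcγ.inv_left
      have heM : e ∉ M := fun e1 => hcM (h.moves z₀ hz₀ hz₀M c (hedef ▸ e1))
      have hxγ : Commute x γ := K.central x hx
      have he'γ : Commute e' γ := he'def ▸ (hxγ.mul_left heγ).mul_left hxγ.inv_left
      have hodd : Odd (orderOf (e * e')) := by
        have h1 := h.odd_product hz₀ hz₀M (h.conj z₀ hz₀ (c⁻¹ * x * c))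
          (fun e1 => hcx (h.moves z₀ hz₀ hz₀M _ e1))
        have e2 : c * (z₀ * (c⁻¹ * x * c * z₀ * (c⁻¹ * x * c)⁻¹)) * c⁻¹ = e * e' := by
          rw [he'def, hedef]; group
        have h2 : orderOf (c * (z₀ * (c⁻¹ * x * c * z₀ * (c⁻¹ * x * c)⁻¹)) * c⁻¹) =
            orderOf (z₀ * (c⁻¹ * x * c * z₀ * (c⁻¹ * x * c)⁻¹)) :=
          orderOf_injective (MulAut.conj c).toMonoidHom (MulAut.conj c).injective _
        rw [← e2, h2]
        exact h1
      obtain ⟨n, hn⟩ := hodd
      obtain ⟨r, hr⟩ : ∃ r, r = e * e' := ⟨_, rfl⟩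
      rw [← hr] at hn
      have hrn : r ^ (2 * n + 1) = 1 := hn ▸ pow_orderOf_eq_one r
      have hee := h.mul_self heZ
      have hee' := h.mul_self he'Z
      have hei : e * r * e⁻¹ = r⁻¹ := hr ▸ Invol.conj_mul_eq_inv (h.inv e heZ) (h.inv e' he'Z)
      have her : e * r = e' := by rw [hr, ← mul_assoc, hee, one_mul]
      obtain ⟨d', hd'def⟩ : ∃ d', d' = r ^ n * e := ⟨_, rfl⟩
      have hkey : ∀ k : ℕ, e * r ^ k = (r ^ k)⁻¹ * e := fun k => by
        rw [← inv_pow, ← hei, conj_pow, inv_mul_cancel_right]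
      have hd'Z : d' ∈ Z := by
        have hhalf : r ^ n = r ^ (n * (n + 1) + n * (n + 1)) := by
          rw [show n * (n + 1) + n * (n + 1) = n + (2 * n + 1) * n by ring, pow_add, pow_mul, hrn, one_pow,
            mul_one]
        have := h.conj e heZ (r ^ (n * (n + 1)))
        rw [Tight.conj_pow_of_inverts hei] at this
        rw [hd'def, hhalf]
        exact this
      have hd'γ : Commute d' γ := hd'def ▸ ((hr ▸ heγ.mul_left he'γ : Commute r γ).pow_left n).mul_left heγ
      have hconj : d' * e * d'⁻¹ = e' := by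
        rw [Invol.inv_of_orderOf_two (h.inv d' hd'Z), hd'def]
        calc r ^ n * e * e * (r ^ n * e) = r ^ n * (e * e) * r ^ n * e := by group
          _ = r ^ (n + n) * e := by rw [hee, mul_one, ← pow_add]
          _ = r⁻¹ * e := by
            rw [show r⁻¹ = r ^ (n + n) from inv_eq_of_mul_eq_one_left
              (by rw [← pow_succ, show n + n + 1 = 2 * n + 1 by omega, hrn])]
          _ = e' := by
            have := hkey 1
            rw [pow_one, her] at this
            exact this.symm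
      have hxd' : Commute x d' := by
        have hxr : x * r * x⁻¹ = r⁻¹ := by
          rw [hr, mul_inv_rev, Invol.inv_of_orderOf_two (h.inv e' he'Z), Invol.inv_of_orderOf_two (h.inv e heZ)]
          calc x * (e * e') * x⁻¹ = (x * e * x⁻¹) * (x * e' * x⁻¹) := by group
            _ = e' * e := by
              rw [he'def, hxi, show x * (x * e * x) * x = (x * x) * e * (x * x) by group, hxx, one_mul, mul_one]
        refine mul_inv_eq_iff_eq_mul.1 ?_
        rw [hd'def, show x * (r ^ n * e) * x⁻¹ = x * r ^ n * x⁻¹ * (x * e * x⁻¹) by group, ← conj_pow, hxr,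
          ← he'def, ← her, inv_pow, ← mul_assoc, ← hkey n, mul_assoc, ← pow_succ]
        have h3 : r ^ (n + 1) = (r ^ n)⁻¹ := eq_inv_of_mul_eq_one_left
          (by rw [← pow_add, show n + 1 + n = 2 * n + 1 by omega, hrn])
        rw [h3]
        have := hkey n
        calc e * (r ^ n)⁻¹ = e * (r ^ n)⁻¹ * (e * e) := by rw [hee, mul_one]
          _ = e * (r ^ n)⁻¹ * e * e := by group
          _ = e * ((r ^ n)⁻¹ * e) * e := by group
          _ = e * (e * r ^ n) * e := by rw [this]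
          _ = r ^ n * e := by rw [← mul_assoc e e, hee, one_mul]
      by_cases hd'M : d' ∈ M
      · have hs := K'.single_mul h hd'Z hd'M hxd'.symm
        refine heM ((hs.mem_of_commute (M.mul_mem hd'M hxM)) ?_)
        show e * (d' * x) = d' * x * e
        calc e * (d' * x) = d' * (d'⁻¹ * e * d'⁻¹⁻¹) * x := by group
          _ = d' * e' * x := by
            rw [Invol.inv_of_orderOf_two (h.inv d' hd'Z)]
            have := hconj
            rw [Invol.inv_of_orderOf_two (h.inv d' hd'Z)] at this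
            rw [Invol.inv_of_orderOf_two (h.inv d' hd'Z), this]
          _ = d' * x * e := by rw [he'def]; group
      · exact hd'M (hno d' hd'Z hxd'.symm hd'γ)

/-- The configuration does not occur in a faithful action. -/
theorem absurd_faithful [Finite G] (hcore : M.normalCore = ⊥) : False := by
  haveI : Fact (Nat.Prime 2) := ⟨Nat.prime_two⟩
  have hiso := ZStar.isIsolated_of_sylow K.mem K.inv fun g hg => K.eq_of_conj h hg
  obtain ⟨O, hOn, hOodd, hO⟩ := ZStar.exists_odd_normal hiso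
  obtain ⟨a, ha, haP, b, hb, hbP, hab⟩ := K.two
  have hc := K.comm a ha haP b hb hbP
  have haa := h.mul_self ha
  have hbb := h.mul_self hb
  set B := Subgroup.closure ({a, b} : Set G) with hB
  have hBp : IsPGroup 2 ↥B := P.isPGroup'.to_le ((closure_le _).2 (Set.insert_subset haP
    (Set.singleton_subset_iff.2 hbP)))
  have hel : ∀ v ∈ B, v = 1 ∨ v = a ∨ v = b ∨ v = a * b := by
    intro v hv
    induction hv using Subgroup.closure_induction_left with
    | one => exact Or.inl rfl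
    | mul_left w hw v _ ih =>
      rcases hw with rfl | rfl <;> rcases ih with rfl | rfl | rfl | rfl
      · exact Or.inr (Or.inl (mul_one _))
      · exact Or.inl haa
      · exact Or.inr (Or.inr (Or.inr rfl))
      · exact Or.inr (Or.inr (Or.inl (by rw [← mul_assoc, haa, one_mul])))
      · exact Or.inr (Or.inr (Or.inl (mul_one _)))
      · exact Or.inr (Or.inr (Or.inr hc.eq.symm))
      · exact Or.inl hbb
      · exact Or.inr (Or.inl (by rw [hc.eq, ← mul_assoc, hbb, one_mul]))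
    | inv_mul_cancel w hw v _ ih =>
      have hwi : w⁻¹ = w := by
        rcases hw with rfl | rfl
        exacts [Invol.inv_of_orderOf_two (h.inv _ ha), Invol.inv_of_orderOf_two (h.inv _ hb)]
      rw [hwi]
      rcases hw with rfl | rfl <;> rcases ih with rfl | rfl | rfl | rfl
      · exact Or.inr (Or.inl (mul_one _))
      · exact Or.inl haa
      · exact Or.inr (Or.inr (Or.inr rfl))
      · exact Or.inr (Or.inr (Or.inl (by rw [← mul_assoc, haa, one_mul])))
      · exact Or.inr (Or.inr (Or.inl (mul_one _)))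
      · exact Or.inr (Or.inr (Or.inr hc.eq.symm))
      · exact Or.inl hbb
      · exact Or.inr (Or.inl (by rw [hc.eq, ← mul_assoc, hbb, one_mul]))
  haveI : IsMulCommutative ↥B := ⟨⟨fun ⟨v, hv⟩ ⟨w, hw⟩ => Subtype.ext (by
    have hcl : B ≤ Subgroup.centralizer ({a, b} : Set G) := (closure_le _).2 fun p hp => by
      refine mem_centralizer_iff.2 fun q hq => ?_
      rcases hp with rfl | rfl <;> rcases hq with rfl | rfl
      exacts [rfl, hc.symm.eq, hc.eq, rfl]
    have : B ≤ Subgroup.centralizer ({v} : Set G) := (closure_le _).2 fun p hp =>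
      mem_centralizer_singleton_iff.2 (mem_centralizer_iff.1 (hcl hv) p hp)
    exact (mem_centralizer_singleton_iff.1 (this hw)).symm)⟩⟩
  have hncyc : ¬ IsCyclic ↥B := fun hcyc => hab (congrArg Subtype.val
    (Invol.involution_unique_of_isCyclic (x := (⟨a, Invol.left_mem_closure_pair⟩ : ↥B))
      (y := ⟨b, Invol.right_mem_closure_pair⟩) (by rw [Subgroup.orderOf_mk]; exact h.inv a ha)
      (by rw [Subgroup.orderOf_mk]; exact h.inv b hb)))
  have hgen := Grp.generated_by_centralizers B O hncyc (fun v _ => mem_normalizer_iff.2 fun w =>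
    ⟨fun hw => hOn.conj_mem w hw v, fun hw => by simpa [mul_assoc] using hOn.conj_mem _ hw v⁻¹⟩) (by
      obtain ⟨k, hk⟩ := IsPGroup.iff_card.1 hBp
      rw [hk]
      exact (Nat.coprime_two_left.2 hOodd).pow_left k)
  have hOM : O ≤ M := by
    rw [← hgen]
    refine iSup₂_le fun v hv w hw => ?_
    have hwv : Commute w v := mem_centralizer_singleton_iff.1 hw.2
    rcases hel v hv.1 with e | e | e | e
    · exact absurd e hv.2
    · exact h.mem_of_commute ha (K.le haP) (e ▸ hwv)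
    · exact h.mem_of_commute hb (K.le hbP) (e ▸ hwv)
    · exact (h.pair a ha (K.le haP) b hb (K.le hbP) hc hab).mem_of_commute
        (M.mul_mem (K.le haP) (K.le hbP)) (e ▸ hwv)
  have hγ : γ ∈ M.normalCore := fun g => by
    have h1 := M.mul_mem (M.inv_mem (K.le K.mem)) (hOM (hO g))
    simp only [Invol.inv_of_orderOf_two K.inv, ← mul_assoc, Invol.mul_self_of_orderOf_two K.inv,
      one_mul] at h1
    exact h1
  rw [hcore, mem_bot] at hγ
  exact Invol.ne_one_of_orderOf_two K.inv hγ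

end Cfg

end Cfsg.Agent.Fus.SingleCrit
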