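import Mathlib
import Cfsg.Agent.Lib.Fus.TightCriterion.Main
import Cfsg.Agent.Lib.Fus.SClosedSE.Main
import Cfsg.Agent.Lib.Fus.SingleCriterion.Refute

/-!
# `M` is strongly embedded in the group generated by the class

Aschbacher's criterion is a hypothesis.  In the centraliser of an involution the product of two members
is a member by the refutation, so the members form a strongly closed subgroup.
-/

set_option autoImplicit false

namespace Cfsg.Agent.Fus.SingleCrit

open Subgroup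

universe u

variable {G : Type u} [Group G] {Z : Set G} {M : Subgroup G}

theorem Hyp.mem_iff_isConj [Finite G] (h : Hyp Z M) {z x : G} (hz : z ∈ Z) (hzM : z ∈ M) :
    x ∈ Z ↔ IsConj z x := by
  refine ⟨fun hx => ?_, fun hx => ?_⟩
  · obtain ⟨e, he, heM⟩ := h.exists_outside
    obtain ⟨k, -, hk⟩ := h.conj_in (C := ⊤) hz hzM (mem_top _) he heM (mem_top _) hx (mem_top _)
    exact _root_.isConj_iff.2 ⟨k, hk⟩
  · obtain ⟨g, rfl⟩ := _root_.isConj_iff.1 hx
    exact h.conj z hz g

theorem Hyp.normalClosure_eq [Finite G] (h : Hyp Z M) {z : G} (hz : z ∈ Z) (hzM : z ∈ M) :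
    Subgroup.normalClosure ({z} : Set G) = Subgroup.closure Z := by
  unfold Subgroup.normalClosure Group.conjugatesOfSet
  congr 1
  ext x
  simp only [conjugatesOf, Set.biUnion_singleton, Set.mem_setOf_eq]
  exact (h.mem_iff_isConj hz hzM).symm

theorem Hyp.centralizer_ne_top (hcore : M.normalCore = ⊥) {v : G} (hvM : v ∈ M) (hv : v ≠ 1) :
    Subgroup.centralizer ({v} : Set G) ≠ ⊤ := fun e => hv (by
  have h1 : v ∈ M.normalCore := fun g => by
    have hg : g * v = v * g := mem_centralizer_singleton_iff.1 (e ▸ mem_top g)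
    rwa [hg, mul_inv_cancel_right]
  rwa [hcore, mem_bot] at h1)

/-- The conclusion of `Frame.constant`. -/
def Const (Z : Set G) (M C T : Subgroup G) : Prop :=
  (∀ x ∈ Z, x ∈ T → ∀ y ∈ Z, y ∈ T → Commute x y) ∧
    (∀ x ∈ Z, x ∈ T → ∀ y ∈ Z, y ∈ T → x ≠ y → ∃ d ∈ Z, d ∈ T ∧ x * y * d ∈ kernel M C) ∧
    ∀ x ∈ Z, x ∈ T → ∀ y ∈ Z, y ∈ T → x ≠ y → ∀ d ∈ Z, d ∈ T → x * y * d ∈ kernel M C →
      ∀ x' ∈ Z, x' ∈ T → ∀ y' ∈ Z, y' ∈ T → x' ≠ y' → ∀ d' ∈ Z, d' ∈ T → x' * y' * d' ∈ kernel M C →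
        x * y * d = x' * y' * d'

/-- A product of three members in the kernel is trivial. -/
theorem Hyp.product_eq_one [Finite G] (h : Hyp Z M) (hcore : M.normalCore = ⊥)
    (hconst : ∀ {v : G} {T : Subgroup G}, Frame Z M (Subgroup.centralizer ({v} : Set G)) T → v ∈ T → v ≠ 1 →
      Const Z M (Subgroup.centralizer ({v} : Set G)) T)
    {C T : Subgroup G} (F : Frame Z M C T) (hcomm : ∀ x ∈ Z, x ∈ T → ∀ y ∈ Z, y ∈ T → Commute x y)
    {x y d : G} (hx : x ∈ Z) (hxT : x ∈ T) (hy : y ∈ Z) (hyT : y ∈ T) (hxy : x ≠ y) (hd : d ∈ Z) (hdT : d ∈ T)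
    (hk : x * y * d ∈ kernel M C) : x * y * d = 1 := by
  haveI : Fact (Nat.Prime 2) := ⟨Nat.prime_two⟩
  by_contra hf1
  obtain ⟨f, hf⟩ : ∃ f, f = x * y * d := ⟨_, rfl⟩
  rw [← hf] at hk hf1
  have hfT : f ∈ T := hf ▸ T.mul_mem (T.mul_mem hxT hyT) hdT
  have hfM := F.le hfT
  have hcf : ∀ {a : G}, a ∈ Z → a ∈ T → Commute a f := fun ha haT => (F.commute_kernel h ha haT hfT hk).symm
  have hxy' := hcomm x hx hxT y hy hyT
  have hxd := hcomm x hx hxT d hd hdT
  have hyd := hcomm y hy hyT d hd hdT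
  have hff : f * f = 1 := by
    rw [hf, (hxd.symm.mul_right hyd.symm).mul_mul_mul_comm, hxy'.symm.mul_mul_mul_comm, h.mul_self hx,
      h.mul_self hy, h.mul_self hd, one_mul, one_mul]
  -- a member outside `M` commutes with the product
  obtain ⟨c, hc, hcM⟩ := SetLike.not_le_iff_exists.1 F.out
  obtain ⟨n, hn, hnc⟩ := F.exists_lift h hx hxT (h.conj x hx c)
    (C.mul_mem (C.mul_mem hc (F.mem_C hxT)) (C.inv_mem hc))
  have hout : ¬ Subgroup.centralizer ({f} : Set G) ≤ M := fun hle => hcM (h.moves x hx (F.le hxT) c (by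
    have h1 := hle (mem_centralizer_singleton_iff.2 (hnc f (mem_inf.2 ⟨hfT, hk⟩)).eq)
    have h2 := M.mul_mem (M.mul_mem (M.inv_mem (kernel_le_right hn)) h1) (kernel_le_right hn)
    simpa [mul_assoc] using h2))
  have hfZ : f ∉ Z := fun e => hout fun g hg => h.mem_of_commute e hfM (mem_centralizer_singleton_iff.1 hg)
  -- the frame at the product
  set W := Subgroup.closure ({x, y, d} : Set G) with hW
  have hWC : W ≤ Subgroup.centralizer ({f} : Set G) := (closure_le _).2 fun a ha => by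
    rcases ha with rfl | rfl | rfl
    exacts [mem_centralizer_singleton_iff.2 (hcf hx hxT).eq, mem_centralizer_singleton_iff.2 (hcf hy hyT).eq,
      mem_centralizer_singleton_iff.2 (hcf hd hdT).eq]
  have hWT : W ≤ T := (closure_le _).2 fun a ha => by rcases ha with rfl | rfl | rfl <;> assumption
  obtain ⟨T', hWT', F'⟩ := h.exists_frame hWC (F.sylow.2.1.to_le hWT) hx (subset_closure (Or.inl rfl))
    (F.le hxT) hout
  have hxT' : x ∈ T' := hWT' (subset_closure (Or.inl rfl))
  have hyT' : y ∈ T' := hWT' (subset_closure (Or.inr (Or.inl rfl)))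
  have hdT' : d ∈ T' := hWT' (subset_closure (Or.inr (Or.inr rfl)))
  have hfT' : f ∈ T' := hf ▸ T'.mul_mem (T'.mul_mem hxT' hyT') hdT'
  have hcf' : ∀ {a : G}, a ∈ T' → Commute a f := fun ha => mem_centralizer_singleton_iff.1 (F'.mem_C ha)
  obtain ⟨hcomm', hthird', hcst'⟩ := hconst F' hfT' hf1
  have hk' : f ∈ kernel M (Subgroup.centralizer ({f} : Set G)) :=
    mem_kernel.2 ⟨F'.mem_C hfT', fun g hg => by
      rw [(show Commute g f from mem_centralizer_singleton_iff.1 hg).eq, mul_inv_cancel_right]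
      exact hfM⟩
  have hall : ∀ a ∈ Z, a ∈ T' → ∀ b ∈ Z, b ∈ T' → a ≠ b → ∃ e ∈ Z, e ∈ T' ∧ a * b * e = f := by
    intro a ha haT b hb hbT hab
    obtain ⟨e, he, heT, hek⟩ := hthird' a ha haT b hb hbT hab
    exact ⟨e, he, heT,
      (hcst' a ha haT b hb hbT hab e he heT hek x hx hxT' y hy hyT' hxy d hd hdT' (hf ▸ hk')).trans hf.symm⟩
  -- it is a Sylow subgroup
  obtain ⟨S, hS⟩ := F'.sylow.2.1.exists_le_sylow
  have hSM : (S : Subgroup G) ≤ M := h.twoGroup_le S.isPGroup' hx (hS hxT') (F.le hxT)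
  have heq : T' = (S : Subgroup G) := by
    by_contra hne
    refine (SClosedSE.card_lt_inf_normalizer S.isPGroup' hS hne).not_ge
      (F'.sylow.card_le (fun s hs => ?_) (S.isPGroup'.to_le inf_le_left))
    have hmap : ∀ {a : G}, a ∈ T' → s * a * s⁻¹ ∈ T' := fun ha => (mem_normalizer_iff.1 hs.2 _).1 ha
    obtain ⟨e', he', he'T, he'f⟩ := hall _ (h.conj x hx s) (hmap hxT') _ (h.conj y hy s) (hmap hyT')
      fun e => hxy (mul_left_cancel (mul_right_cancel e))
    have hsf : s * f * s⁻¹ = s * x * s⁻¹ * (s * y * s⁻¹) * (s * d * s⁻¹) := by rw [hf]; group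
    by_cases hde : s * d * s⁻¹ = e'
    · refine mem_centralizer_singleton_iff.2 (mul_inv_eq_iff_eq_mul.1 ?_)
      rw [hsf, hde, he'f]
    · exfalso
      obtain ⟨e, he, heT, hef⟩ := hall _ (h.conj d hd s) (hmap hdT') e' he' he'T hde
      refine hfZ ?_
      have h1 : s * f * s⁻¹ = e := by
        rw [hsf]
        calc s * x * s⁻¹ * (s * y * s⁻¹) * (s * d * s⁻¹)
            = s * x * s⁻¹ * (s * y * s⁻¹) * (e' * e') * (s * d * s⁻¹) := by rw [h.mul_self he', mul_one]
          _ = s * x * s⁻¹ * (s * y * s⁻¹) * e' * (e' * (s * d * s⁻¹)) := by group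
          _ = f * (e' * (s * d * s⁻¹)) := by rw [he'f]
          _ = e' * (s * d * s⁻¹) * f := (((hcf' he'T).mul_left (hcf' (hmap hdT'))).eq).symm
          _ = e' * (s * d * s⁻¹) * (s * d * s⁻¹ * e' * e) := by rw [hef]
          _ = e' * ((s * d * s⁻¹) * (s * d * s⁻¹)) * e' * e := by group
          _ = e := by rw [h.mul_self (h.conj d hd s), mul_one, h.mul_self he', one_mul]
      have h2 := h.conj e he s⁻¹
      rw [← h1] at h2
      simpa [mul_assoc] using h2
  subst heq
  exact Cfg.absurd_faithful (γ := f) (P := S)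
    ⟨hSM, hfT', Invol.orderOf_two_iff.2 ⟨hff, hf1⟩, fun p hp => hcf' hp, hout, hcomm', hall,
      x, hx, hxT', y, hy, hyT', hxy⟩ h hcore

/-- The theorem by induction on the order of the group. -/
theorem holds (hA : Tight.Criterion.{u}) (n : ℕ) :
    ∀ (G : Type u) [Group G] [Finite G], Nat.card G ≤ n → ∀ (Z : Set G) (M : Subgroup G), Hyp Z M →
      M.normalCore = ⊥ → Tight.Isolated M (Subgroup.closure Z) := by
  haveI : Fact (Nat.Prime 2) := ⟨Nat.prime_two⟩
  induction n with
  | zero =>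
    intro G _ _ hG Z M _ _
    exact absurd hG (by have := Nat.card_pos (α := G); omega)
  | succ n ih =>
    intro G _ _ hG Z M h hcore
    have hconst : ∀ {v : G} {T : Subgroup G}, Frame Z M (Subgroup.centralizer ({v} : Set G)) T → v ∈ T →
        v ≠ 1 → Const Z M (Subgroup.centralizer ({v} : Set G)) T := by
      intro v T F hvT hv1
      set C := Subgroup.centralizer ({v} : Set G) with hC
      have hfull : ∀ w ∈ Z, (∀ t ∈ T, Commute t w) → w ∈ C := fun w _ hc =>
        mem_centralizer_singleton_iff.2 (hc v hvT).symm.eq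
      have hlt : Nat.card (↥C ⧸ (M.subgroupOf C).normalCore) ≤ n := by
        have h1 := Nat.card_le_card_of_surjective _ (QuotientGroup.mk'_surjective (M.subgroupOf C).normalCore)
        have h2 : Nat.card C < Nat.card G := lt_of_le_of_ne (Subgroup.card_le_card_group C) fun e =>
          Hyp.centralizer_ne_top hcore (F.le hvT) hv1 (Subgroup.eq_top_of_card_eq C e)
        omega
      exact F.constant h hfull (ih _ hlt _ _ (F.hyp_bar h hfull) mbar_normalCore)
    obtain ⟨P, hPM, z, hz, hzP, hzc⟩ := h.central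
    have hzM := hPM hzP
    have hz2 := h.inv z hz
    rw [← h.normalClosure_eq hz hzM, Tight.isolated_iff]
    refine hA P z hz2 ⟨⟨z, hzP⟩, mem_center_iff.2 fun x => Subtype.ext (hzc x x.2), rfl⟩ M h.ne_top
      (fun g => ?_) fun u hu huz hnle => ?_
    · rw [Invol.mem_map_conj]
      exact ⟨fun hg => inv_mem_iff.1 (h.moves z hz hzM g⁻¹ (by simpa using hg)),
        fun hg => mul_mem (mul_mem (inv_mem hg) hzM) hg⟩
    rw [← Tight.isolated_iff]
    set C := Subgroup.centralizer ({u} : Set G) with hC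
    have hzC : z ∈ C := mem_centralizer_singleton_iff.2 huz.symm
    have huC : u ∈ C := mem_centralizer_singleton_iff.2 rfl
    obtain ⟨c, hcC, hcM⟩ := SetLike.not_le_iff_exists.1 hnle
    obtain ⟨T, hWT, F⟩ := h.exists_frame (C := C)
      ((closure_le _).2 (Set.insert_subset hzC (Set.singleton_subset_iff.2 huC)))
      (isPGroup_closure_invol (S := ({z, u} : Set G)) (fun a ha => by
        rcases ha with rfl | rfl
        exacts [Invol.mul_self_of_orderOf_two hz2, Invol.mul_self_of_orderOf_two hu]) fun a ha b hb => by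
        rcases ha with rfl | rfl <;> rcases hb with rfl | rfl
        exacts [Commute.refl _, huz.symm, huz, Commute.refl _])
      hz Invol.left_mem_closure_pair hzM hnle
    have hzT : z ∈ T := hWT Invol.left_mem_closure_pair
    obtain ⟨hcomm, hthird, -⟩ := hconst F (hWT Invol.right_mem_closure_pair) (Invol.ne_one_of_orderOf_two hu)
    have hmul : ∀ a ∈ Z, a ∈ T → ∀ b ∈ Z, b ∈ T → a ≠ b → a * b ∈ Z := by
      intro a ha haT b hb hbT hab
      obtain ⟨d, hd, hdT, hk⟩ := hthird a ha haT b hb hbT hab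
      rw [mul_eq_one_iff_eq_inv.1 (h.product_eq_one hcore hconst F hcomm ha haT hb hbT hab hd hdT hk),
        Invol.inv_of_orderOf_two (h.inv d hd)]
      exact hd
    -- the members form a strongly closed subgroup
    let E : Subgroup G :=
      { carrier := {w | w ∈ T ∧ (w = 1 ∨ w ∈ Z)}
        one_mem' := ⟨T.one_mem, Or.inl rfl⟩
        mul_mem' := by
          rintro a b ⟨haT, ha⟩ ⟨hbT, hb⟩
          refine ⟨T.mul_mem haT hbT, ?_⟩
          rcases ha with rfl | ha
          · simpa using hb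
          rcases hb with rfl | hb
          · simpa using Or.inr ha
          by_cases hab : a = b
          · exact Or.inl (by rw [hab]; exact h.mul_self hb)
          · exact Or.inr (hmul a ha haT b hb hbT hab)
        inv_mem' := by
          rintro a ⟨haT, ha⟩
          rcases ha with rfl | ha
          · simpa using haT
          · rw [Invol.inv_of_orderOf_two (h.inv a ha)]
            exact ⟨haT, Or.inr ha⟩ }
    obtain ⟨S, hS⟩ := F.sylow.sylow
    have hinvol : ∀ a : ↥C, a ∈ E.subgroupOf C → orderOf a = 2 → (a : G) ∈ Z ∧ (a : G) ∈ T := fun a ha ha2 => by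
      rcases ha.2 with e | e
      · exact absurd (show a = 1 from Subtype.ext e) (Invol.ne_one_of_orderOf_two ha2)
      · exact ⟨e, ha.1⟩
    have hz' : (⟨z, hzC⟩ : ↥C) ∈ E.subgroupOf C := ⟨hzT, Or.inr hz⟩
    have hz'2 : orderOf (⟨z, hzC⟩ : ↥C) = 2 := by rw [Subgroup.orderOf_mk]; exact hz2
    have hyp : SClosedSE.Hyp S (E.subgroupOf C) (M.subgroupOf C) := by
      refine ⟨⟨fun a ha => hS.ge ha.1, fun a ha g hg => ?_⟩, fun e => ?_,
        fun e => hnle (subgroupOf_eq_top.1 e), fun a ha ha2 g hg => ?_, fun g hg => ?_⟩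
      · rw [hS] at hg
        refine ⟨hg, ?_⟩
        rcases ha.2 with e | e
        · exact Or.inl (by show (g : G) * (a : G) * (g : G)⁻¹ = 1; rw [show (a : G) = 1 from e]; group)
        · exact Or.inr (h.conj _ e (g : G))
      · rw [e, mem_bot] at hz'
        exact Invol.ne_one_of_orderOf_two hz2 (congrArg Subtype.val hz')
      · obtain ⟨haZ, haT⟩ := hinvol a ha ha2
        exact h.mem_of_commute haZ (F.le haT) (congrArg Subtype.val (mem_centralizer_singleton_iff.1 hg))
      · exact h.moves z hz hzM g (F.le (hinvol _ (hg _ hz' hz'2) ((Invol.orderOf_conj_eq g _).trans hz'2)).2)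
    have hse := Tight.isolated_iff.2 (SClosedSE.holds hA (Nat.card ↥C) ↥C rfl S _ _ hyp)
    set N := Subgroup.normalClosure {a : ↥C | a ∈ E.subgroupOf C ∧ orderOf a = 2} with hN
    have hNn : N.Normal := Subgroup.normalClosure_normal
    have hle : Subgroup.closure {x : G | IsConj z x ∧ x * u = u * x} ≤ N.map C.subtype := by
      refine (closure_le _).2 fun x hx => ?_
      obtain ⟨k, hk, hkx⟩ := h.conj_in (C := C) hz hzM hzC (h.conj z hz c) (fun e => hcM (h.moves z hz hzM c e))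
        (C.mul_mem (C.mul_mem hcC hzC) (C.inv_mem hcC)) ((h.mem_iff_isConj hz hzM).2 hx.1)
        (mem_centralizer_singleton_iff.2 hx.2)
      have hkC : k ∈ C := (closure_le C).2 Set.inter_subset_right hk
      exact ⟨⟨k, hkC⟩ * ⟨z, hzC⟩ * ⟨k, hkC⟩⁻¹, hNn.conj_mem _ (subset_normalClosure ⟨hz', hz'2⟩) _, hkx⟩
    refine ⟨fun hl => hcM (h.moves z hz hzM c (hl (subset_closure ⟨_root_.isConj_iff.2 ⟨c, rfl⟩, ?_⟩))),
      ⟨z, subset_closure ⟨IsConj.refl z, huz.symm⟩, hzM, hz2⟩, fun t htL htM ht2 g hgL hgt => ?_⟩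
    · exact mem_centralizer_singleton_iff.1 (C.mul_mem (C.mul_mem hcC hzC) (C.inv_mem hcC))
    obtain ⟨t', ht', rfl⟩ := hle htL
    obtain ⟨g', hg', rfl⟩ := hle hgL
    exact hse.2.2 t' ht' htM ((orderOf_coe t').symm.trans ht2) g' hg' hgt

/-- The theorem for a group. -/
theorem Hyp.isolated [Finite G] (h : Hyp Z M) (hA : Tight.Criterion.{u}) (hcore : M.normalCore = ⊥) :
    Tight.Isolated M (Subgroup.closure Z) :=
  holds hA (Nat.card G) G le_rfl Z M h hcore

/-- The criterion for simple groups (the statement S1175) follows from Aschbacher's criterion. -/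
theorem s1175_of (hA : Tight.Criterion.{u}) {G : Type u} [Group G] [Finite G] [IsSimpleGroup G] (M : Subgroup G)
    (hM : M ≠ ⊤) (z : G) (hz : orderOf z = 2) (hzM : z ∈ M) (h1 : ∃ S : Sylow 2 G, z ∈ S ∧ ∀ s ∈ S, Commute s z)
    (h2 : ∀ g : G, g * z * g⁻¹ ∈ M → g ∈ M)
    (h3 : ∀ g : G, Commute z (g * z * g⁻¹) → g * z * g⁻¹ ≠ z →
      Subgroup.centralizer ({z * (g * z * g⁻¹)} : Set G) ≤ M) :
    ∃ H : Subgroup G, Cfsg.IsStronglyEmbedded H := by
  haveI : Fact (Nat.Prime 2) := ⟨Nat.prime_two⟩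
  obtain ⟨S, hzS, hSz⟩ := h1
  have hSM : (S : Subgroup G) ≤ M := fun s hs => h2 s (by rwa [(hSz s hs).eq, mul_inv_cancel_right])
  have hzz := Invol.mul_self_of_orderOf_two hz
  have hconj : ∀ {x : G}, IsConj z x → x ∈ M → ∃ a ∈ M, a * z * a⁻¹ = x := fun hx hxM => by
    obtain ⟨a, rfl⟩ := _root_.isConj_iff.1 hx
    exact ⟨a, h2 a hxM, rfl⟩
  have hsingle : ∀ w : G, IsConj z w → Commute z w → w ≠ z → w ∈ M → Single M (z * w) := by
    intro w hw hc hne hwM g hg
    obtain ⟨b, rfl⟩ := _root_.isConj_iff.1 hw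
    set q := z * (b * z * b⁻¹) with hq
    have hcent : Subgroup.centralizer ({q} : Set G) ≤ M := h3 b hc hne
    have hq2 : orderOf q = 2 := Invol.orderOf_two_iff.2 ⟨by
      rw [hq, hc.symm.mul_mul_mul_comm, hzz,
        Invol.mul_self_of_orderOf_two ((Invol.orderOf_conj_eq b z).trans hz), one_mul],
      Invol.mul_ne_one_of_ne hz (Ne.symm hne)⟩
    obtain ⟨m, hm⟩ := Invol.exists_conj_subset_sylow
      (IsPGroup.comap_subtype (K := M) (Invol.isPGroup_zpowers (x := g * q * g⁻¹) (n := 1)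
        (by rw [Invol.orderOf_conj_eq, hq2, pow_one]))) (S.subtype hSM)
    have h4 : (m : G) * (g * q * g⁻¹) * (m : G)⁻¹ ∈ (S : Subgroup G) := hm ⟨_, hg⟩ (mem_zpowers _)
    have h5 := (hSz _ h4).map (MulAut.conj ((m : G) * g)⁻¹)
    have h6 : ((m : G) * g)⁻¹ * z * ((m : G) * g) ∈ M := hcent (mem_centralizer_singleton_iff.2 (by
      have h7 := h5.eq
      simp only [MulAut.conj_apply, inv_inv] at h7
      rw [show ((m : G) * g)⁻¹ * ((m : G) * (g * q * g⁻¹) * (m : G)⁻¹) * ((m : G) * g) = q by group] at h7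
      exact h7.symm))
    have h8 := M.mul_mem (M.inv_mem m.2) (inv_mem_iff.1 (h2 ((m : G) * g)⁻¹ (by rwa [inv_inv])))
    simpa using h8
  have h : Hyp {x : G | IsConj z x} M := by
    refine ⟨fun x hx => ?_, fun x hx g => hx.trans (_root_.isConj_iff.2 ⟨g, rfl⟩), fun x hx hxM g hg => ?_,
      fun x hx hxM y hy hyM hc hne => ?_, ⟨S, hSM, z, IsConj.refl z, hzS, hSz⟩, hM⟩
    · obtain ⟨a, rfl⟩ := _root_.isConj_iff.1 hx
      exact (Invol.orderOf_conj_eq a z).trans hz
    · obtain ⟨a, ha, rfl⟩ := hconj hx hxM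
      have h4 := M.mul_mem (h2 (g * a) (by simpa [mul_assoc] using hg)) (M.inv_mem ha)
      simpa using h4
    · obtain ⟨a, ha, rfl⟩ := hconj hx hxM
      have hw : IsConj z (a⁻¹ * y * a) := hy.trans (_root_.isConj_iff.2 ⟨a⁻¹, by rw [inv_inv]⟩)
      have hcw : Commute z (a⁻¹ * y * a) := by
        simpa [mul_assoc] using hc.map (MulAut.conj a⁻¹)
      have h4 := (hsingle _ hw hcw (fun e => hne (by rw [← e]; group))
        (M.mul_mem (M.mul_mem (M.inv_mem ha) hyM) ha)).conj ha
      rwa [show a * (z * (a⁻¹ * y * a)) * a⁻¹ = a * z * a⁻¹ * y by group] at h4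
  have hcore : M.normalCore = ⊥ := (M.normalCore_normal.eq_bot_or_eq_top).resolve_right fun e =>
    hM (top_le_iff.1 (e ▸ M.normalCore_le))
  have htop : Subgroup.closure {x : G | IsConj z x} = ⊤ := by
    rw [← h.normalClosure_eq (IsConj.refl z) hzM]
    exact (Subgroup.normalClosure_normal (s := ({z} : Set G))).eq_bot_or_eq_top.resolve_left fun e =>
      Invol.ne_one_of_orderOf_two hz (mem_bot.1 (e ▸ subset_normalClosure (Set.mem_singleton z)))
  have hiso := h.isolated hA hcore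
  rw [htop] at hiso
  refine ⟨M, (Invol.isStronglyEmbedded_iff hM (Invol.even_card_of_mem hz hzM)).2 fun s hs hs2 g hg => ?_⟩
  exact inv_mem_iff.1 (hiso.2.2 s (mem_top _) hs hs2 g⁻¹ (mem_top _) (by simpa using hg))

end Cfsg.Agent.Fus.SingleCrit
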